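import Cfsg.Agent.Lib.Helper2.CharPerm
import Cfsg.Agent.Lib.Helper2.CharClifford
import Cfsg.Agent.Lib.Helper2.CharProd
import Cfsg.Agent.Lib.Helper25.Quot
import Cfsg.Agent.Lib.Helper25.BlockIdem

/-!
# Real characters and normal subgroups of odd index

* `real_irr_of_odd`: a real irreducible character of a group of odd order is trivial.
* `restrict_inner_parity`: for real irreducible characters `χ₁, χ₂` of `G` and a normal
  subgroup `N` of odd index, the inner product of the restrictions to `N` is a natural number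
  which is odd exactly when `χ₁ = χ₂`.
* `real_over_unique`: at most one real irreducible character of `G` lies over a given
  irreducible character of `N`.
-/

set_option autoImplicit false

namespace Cfsg.Agent.Lib.Helper26

open Cfsg Cfsg.Agent.Lib.Helper2 Cfsg.Agent.Lib.Helper25

open scoped ComplexConjugate

section odd

variable {Q : Type*} [Group Q] [Fintype Q]

omit [Fintype Q] in
/-- in a group of odd order only the identity is conjugate to its inverse -/
theorem eq_one_of_isConj_inv_of_odd [Finite Q] (hodd : Odd (Nat.card Q)) {g : Q}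
    (h : IsConj g⁻¹ g) : g = 1 := by
  obtain ⟨x, hx⟩ := isConj_iff.mp h
  have hx' : x * g * x⁻¹ = g⁻¹ := by
    have h1 := congrArg (fun y => y⁻¹) hx
    simp only [mul_inv_rev, inv_inv] at h1
    rw [mul_assoc]
    exact h1
  have h2 : Commute (x * x) g := by
    show x * x * g = g * (x * x)
    calc x * x * g = x * (x * g * x⁻¹) * x := by group
      _ = x * g⁻¹ * x := by rw [hx']
      _ = (x * g⁻¹ * x⁻¹) * (x * x) := by group
      _ = g * (x * x) := by rw [hx]
  obtain ⟨k, hk⟩ := hodd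
  have hxk : x = (x * x) ^ (k + 1) := by
    have h3 : x ^ (2 * k + 1) = 1 := by
      rw [← hk]
      exact pow_card_eq_one'
    have h6 : 2 * k + 1 + 1 = 2 * (k + 1) := by ring
    calc x = x ^ (2 * k + 1) * x := by rw [h3, one_mul]
      _ = (x * x) ^ (k + 1) := by
        rw [← pow_two, ← pow_mul, ← pow_succ, h6]
  have hcomm : Commute x g := by
    have h4 := h2.pow_left (k + 1)
    rwa [← hxk] at h4
  have hg : g⁻¹ = g := by
    calc g⁻¹ = x * g⁻¹ * x⁻¹ := by rw [hcomm.inv_right.eq, mul_assoc, mul_inv_cancel, mul_one]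
      _ = g := hx
  have hgg : g * g = 1 := by
    nth_rewrite 1 [← hg]
    exact inv_mul_cancel g
  have h5 : g ^ (2 * k + 1) = 1 := by
    rw [← hk]
    exact pow_card_eq_one'
  rw [pow_succ, pow_mul, pow_two, hgg, one_pow, one_mul] at h5
  exact h5

/-- a real irreducible character of a group of odd order is trivial -/
theorem real_irr_of_odd (hodd : Odd (Nat.card Q)) (β : IrrCharacter Q)
    (hreal : (β : Q → ℂ) ∘ (fun g : Q => g⁻¹) = (β : Q → ℂ)) :
    (β : Q → ℂ) = fun _ => (1 : ℂ) := by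
  classical
  have hcard := card_fixed_irr_eq_card_fixed_classes (fun g : Q => g⁻¹)
    (fun χ hχ => isIrrCharacter_comp_inv hχ)
    (fun g h hgh => by
      obtain ⟨x, hx⟩ := isConj_iff.mp hgh
      exact isConj_iff.mpr ⟨x, by rw [← hx]; group⟩)
  have hsub : Subsingleton {C : ConjClasses Q // ∀ g : Q, ConjClasses.mk g = C → IsConj g⁻¹ g} := by
    constructor
    rintro ⟨C, hC⟩ ⟨C', hC'⟩
    apply Subtype.ext
    obtain ⟨g, rfl⟩ := ConjClasses.mk_surjective C
    obtain ⟨g', rfl⟩ := ConjClasses.mk_surjective C'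
    show ConjClasses.mk g = ConjClasses.mk g'
    rw [eq_one_of_isConj_inv_of_odd hodd (hC g rfl), eq_one_of_isConj_inv_of_odd hodd (hC' g' rfl)]
  have hle : Nat.card {χ : IrrCharacter Q // (χ : Q → ℂ) ∘ (fun g : Q => g⁻¹) = (χ : Q → ℂ)} ≤ 1 := by
    rw [hcard]
    exact Finite.card_le_one_iff_subsingleton.mpr hsub
  have hsub2 := Finite.card_le_one_iff_subsingleton.mp hle
  have h1 : (⟨⟨fun _ => (1 : ℂ), isIrrCharacter_one⟩, rfl⟩ :
      {χ : IrrCharacter Q // (χ : Q → ℂ) ∘ (fun g : Q => g⁻¹) = (χ : Q → ℂ)}) = ⟨β, hreal⟩ :=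
    Subsingleton.elim _ _
  have h2 := congrArg (fun x : {χ : IrrCharacter Q //
    (χ : Q → ℂ) ∘ (fun g : Q => g⁻¹) = (χ : Q → ℂ)} => (x.1 : Q → ℂ)) h1
  exact h2.symm

end odd

section conjirr

variable {Q : Type*} [Group Q] [Fintype Q]

/-- the complex conjugate of an irreducible character, as an irreducible character -/
noncomputable def conjIrr (β : IrrCharacter Q) : IrrCharacter Q :=
  ⟨(β : Q → ℂ) ∘ (fun g : Q => g⁻¹), isIrrCharacter_comp_inv β.2⟩

theorem conjIrr_apply (β : IrrCharacter Q) (x : Q) :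
    (conjIrr β : Q → ℂ) x = conj ((β : Q → ℂ) x) := by
  show (β : Q → ℂ) x⁻¹ = _
  rw [irr_conj_eq_inv]

theorem conjIrr_conjIrr (β : IrrCharacter Q) : conjIrr (conjIrr β) = β := by
  apply Subtype.ext
  funext x
  show (β : Q → ℂ) (x⁻¹)⁻¹ = _
  rw [inv_inv]

end conjirr

section normal

variable {G : Type*} [Group G] [Fintype G]

open Classical in
/-- the regular character of the quotient, inflated -/
theorem sum_quot_regular (N : Subgroup G) [N.Normal] [Fintype (G ⧸ N)]
    [Fintype (IrrCharacter (G ⧸ N))] (g : G) :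
    ∑ β : IrrCharacter (G ⧸ N), (β : G ⧸ N → ℂ) 1 * (β : G ⧸ N → ℂ) (g : G ⧸ N)
      = if g ∈ N then (N.index : ℂ) else 0 := by
  classical
  have h := column_orthogonality (G := G ⧸ N) (g : G ⧸ N) 1
  have h2 : ∑ β : IrrCharacter (G ⧸ N), (β : G ⧸ N → ℂ) 1 * (β : G ⧸ N → ℂ) (g : G ⧸ N)
      = ∑ β : IrrCharacter (G ⧸ N),
          (β : G ⧸ N → ℂ) (g : G ⧸ N) * conj ((β : G ⧸ N → ℂ) 1) := by
    apply Finset.sum_congr rfl
    intro β _
    rw [irr_one_conj, mul_comm]
  rw [h2, h]
  by_cases hg : g ∈ N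
  · rw [if_pos hg]
    have h1 : (g : G ⧸ N) = 1 := (QuotientGroup.eq_one_iff g).mpr hg
    rw [h1, colFun_of_isConj (IsConj.refl 1)]
    have hc : Subgroup.centralizer ({(1 : G ⧸ N)} : Set (G ⧸ N)) = ⊤ := by
      rw [Subgroup.centralizer_eq_top_iff_subset]
      intro y hy
      rw [Set.mem_singleton_iff] at hy
      rw [hy]
      exact Subgroup.one_mem _
    rw [hc, Subgroup.card_top]
    rfl
  · rw [if_neg hg]
    apply colFun_of_not_isConj
    intro hc
    apply hg
    rw [isConj_one_left] at hc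
    exact (QuotientGroup.eq_one_iff g).mp hc

open Classical in
/-- sum over the group of a function supported on a subgroup -/
theorem sum_ite_mem_subgroup (N : Subgroup G) [Fintype N] (f : G → ℂ) :
    ∑ g : G, (if g ∈ N then f g else 0) = ∑ n : N, f n := by
  classical
  rw [← Finset.sum_filter]
  exact Finset.sum_subtype (Finset.univ.filter (· ∈ N)) (by simp) f

/-- the inner product of restrictions to a normal subgroup, through the characters of the
quotient -/
theorem classInner_restrict_eq_sum (N : Subgroup G) [N.Normal] [Fintype N] [Fintype (G ⧸ N)]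
    [Fintype (IrrCharacter (G ⧸ N))] (f₁ f₂ : G → ℂ) :
    classInner (fun n : N => f₁ n) (fun n : N => f₂ n)
      = ∑ β : IrrCharacter (G ⧸ N), (β : G ⧸ N → ℂ) 1 *
          classInner (fun g : G => f₁ g * (β : G ⧸ N → ℂ) (g : G ⧸ N)) f₂ := by
  classical
  simp only [classInner_def]
  have hR : ∑ β : IrrCharacter (G ⧸ N), (β : G ⧸ N → ℂ) 1 * ((Nat.card G : ℂ)⁻¹ *
        ∑ g : G, f₁ g * (β : G ⧸ N → ℂ) (g : G ⧸ N) * conj (f₂ g))
      = (Nat.card G : ℂ)⁻¹ * ∑ g : G, (f₁ g * conj (f₂ g)) *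
          ∑ β : IrrCharacter (G ⧸ N), (β : G ⧸ N → ℂ) 1 * (β : G ⧸ N → ℂ) (g : G ⧸ N) := by
    simp only [Finset.mul_sum]
    rw [Finset.sum_comm]
    apply Finset.sum_congr rfl
    intro g _
    apply Finset.sum_congr rfl
    intro β _
    ring
  rw [hR]
  simp only [sum_quot_regular]
  have h3 : ∑ g : G, f₁ g * conj (f₂ g) * (if g ∈ N then (N.index : ℂ) else 0)
      = (N.index : ℂ) * ∑ g : G, (if g ∈ N then f₁ g * conj (f₂ g) else 0) := by
    rw [Finset.mul_sum]
    apply Finset.sum_congr rfl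
    intro g _
    split_ifs <;> ring
  rw [h3, sum_ite_mem_subgroup N (fun g => f₁ g * conj (f₂ g))]
  have hidx : (Nat.card G : ℂ) = (Nat.card N : ℂ) * (N.index : ℂ) := by
    rw [← Nat.cast_mul, Subgroup.card_mul_index]
  rw [hidx]
  have hN0 : (Nat.card N : ℂ) ≠ 0 := card_ne_zero_complex N
  have hi0 : (N.index : ℂ) ≠ 0 := by
    intro h0
    have hG0 := card_ne_zero_complex G
    rw [hidx, h0, mul_zero] at hG0
    exact hG0 rfl
  field_simp

/-- for real irreducible characters of `G` and a normal subgroup of odd index, the inner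
product of the restrictions is a natural number, odd exactly when the characters agree -/
theorem restrict_inner_parity (N : Subgroup G) [N.Normal] [Fintype N] (hodd : Odd N.index)
    (χ₁ χ₂ : IrrCharacter G) (h₁ : ∀ g, conj ((χ₁ : G → ℂ) g) = (χ₁ : G → ℂ) g)
    (h₂ : ∀ g, conj ((χ₂ : G → ℂ) g) = (χ₂ : G → ℂ) g) :
    ∃ A : ℕ, classInner (fun n : N => (χ₁ : G → ℂ) n) (fun n : N => (χ₂ : G → ℂ) n) = A ∧
      ((A : ZMod 2) = if χ₁ = χ₂ then 1 else 0) := by
  classical
  have : Fintype (G ⧸ N) := Fintype.ofFinite _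
  have : Fintype (IrrCharacter (G ⧸ N)) := Fintype.ofFinite _
  have hm : ∀ β : IrrCharacter (G ⧸ N), ∃ m : ℕ,
      classInner (fun g : G => (χ₁ : G → ℂ) g * (β : G ⧸ N → ℂ) (g : G ⧸ N)) (χ₂ : G → ℂ)
        = m := by
    intro β
    have hc : IsCharacter G ((χ₁ : G → ℂ) * (fun g : G => (β : G ⧸ N → ℂ) (g : G ⧸ N))) :=
      IsCharacter.mul (isCharacter_of_isIrrCharacter χ₁.2)
        (isCharacter_of_isIrrCharacter (inflate_irr N β.2))
    exact classInner_isCharacter_nat hc (isCharacter_of_isIrrCharacter χ₂.2)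
  choose m hm using hm
  have hd : ∀ β : IrrCharacter (G ⧸ N), ∃ d : ℕ, (β : G ⧸ N → ℂ) 1 = d := fun β => by
    obtain ⟨n, _, hn⟩ := irr_apply_one β.2
    exact ⟨n, hn⟩
  choose d hd using hd
  refine ⟨∑ β, d β * m β, ?_, ?_⟩
  · rw [classInner_restrict_eq_sum N, Nat.cast_sum]
    apply Finset.sum_congr rfl
    intro β _
    rw [hd β, hm β, Nat.cast_mul]
  · set β₀ : IrrCharacter (G ⧸ N) := ⟨fun _ => 1, isIrrCharacter_one⟩ with hβ₀
    have hmσ : ∀ β, m (conjIrr β) = m β := by
      intro β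
      apply Nat.cast_injective (R := ℂ)
      rw [← hm, ← hm]
      have hreal : conj (classInner (fun g : G => (χ₁ : G → ℂ) g * (β : G ⧸ N → ℂ) (g : G ⧸ N))
          (χ₂ : G → ℂ))
          = classInner (fun g : G => (χ₁ : G → ℂ) g * (β : G ⧸ N → ℂ) (g : G ⧸ N))
            (χ₂ : G → ℂ) := by
        rw [hm β]
        exact Complex.conj_natCast _
      rw [← hreal, classInner_def, classInner_def, map_mul, map_inv₀, Complex.conj_natCast,
        map_sum]
      congr 1
      apply Finset.sum_congr rfl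
      intro g _
      rw [conjIrr_apply, map_mul, map_mul, Complex.conj_conj, h₁ g, h₂ g]
    have hdσ : ∀ β, d (conjIrr β) = d β := by
      intro β
      apply Nat.cast_injective (R := ℂ)
      rw [← hd, ← hd]
      show (β : G ⧸ N → ℂ) (1 : G ⧸ N)⁻¹ = _
      rw [inv_one]
    have hfix : ∀ β, conjIrr β = β → β = β₀ := by
      intro β hβ
      apply Subtype.ext
      have h1 : (β : G ⧸ N → ℂ) ∘ (fun g : G ⧸ N => g⁻¹) = (β : G ⧸ N → ℂ) :=
        congrArg Subtype.val hβ
      exact real_irr_of_odd hodd β h1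
    have hb0 : conjIrr β₀ = β₀ := by
      apply Subtype.ext
      funext x
      rfl
    rw [Nat.cast_sum, ← Finset.add_sum_erase Finset.univ _ (Finset.mem_univ β₀)]
    have hz : ∑ β ∈ Finset.univ.erase β₀, ((d β * m β : ℕ) : ZMod 2) = 0 := by
      refine Finset.sum_involution (fun β _ => conjIrr β) ?_ ?_ ?_ ?_
      · intro β _
        rw [hdσ, hmσ]
        exact CharTwo.add_self_eq_zero _
      · intro β hβ _ hfixed
        exact (Finset.ne_of_mem_erase hβ) (hfix β hfixed)
      · intro β hβ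
        rw [Finset.mem_erase]
        refine ⟨?_, Finset.mem_univ _⟩
        intro h
        have h5 : β = conjIrr β₀ := by rw [← h, conjIrr_conjIrr]
        exact (Finset.ne_of_mem_erase hβ) (by rw [h5, hb0])
      · intro β _
        exact conjIrr_conjIrr β
    rw [hz, add_zero]
    have hd0 : d β₀ = 1 := by
      apply Nat.cast_injective (R := ℂ)
      rw [← hd, Nat.cast_one]
    have hm0 : (m β₀ : ℂ) = if (χ₁ : G → ℂ) = (χ₂ : G → ℂ) then 1 else 0 := by
      rw [← hm]
      have h6 : (fun g : G => (χ₁ : G → ℂ) g * (β₀ : G ⧸ N → ℂ) (g : G ⧸ N))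
          = (χ₁ : G → ℂ) := by
        funext g
        show (χ₁ : G → ℂ) g * 1 = _
        rw [mul_one]
      rw [h6, classInner_irr χ₁.2 χ₂.2]
    rw [hd0, one_mul]
    by_cases h12 : χ₁ = χ₂
    · rw [if_pos h12]
      rw [if_pos (congrArg Subtype.val h12)] at hm0
      have h7 : m β₀ = 1 := by exact_mod_cast hm0
      rw [h7, Nat.cast_one]
    · rw [if_neg h12]
      rw [if_neg (fun h => h12 (Subtype.ext h))] at hm0
      have h7 : m β₀ = 0 := by exact_mod_cast hm0
      rw [h7, Nat.cast_zero]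

/-- the number of conjugates of an irreducible character of a normal subgroup -/
noncomputable def orbitCard (N : Subgroup G) [N.Normal] (φ : IrrCharacter N) : ℕ :=
  Nat.card {θ : IrrCharacter N // ∃ g : G, (θ : N → ℂ) = conjFun N (φ : N → ℂ) g}

/-- Clifford: the inner product of the restrictions of two irreducible characters lying over
the same irreducible character of a normal subgroup -/
theorem restrict_inner_orbit (N : Subgroup G) [N.Normal] [Fintype N] (φ : IrrCharacter N)
    (χ₁ χ₂ : IrrCharacter G) (e₁ e₂ : ℕ)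
    (he₁ : classInner (fun n : N => (χ₁ : G → ℂ) n) (φ : N → ℂ) = e₁)
    (he₂ : classInner (fun n : N => (χ₂ : G → ℂ) n) (φ : N → ℂ) = e₂) (h1 : e₁ ≠ 0) :
    classInner (fun n : N => (χ₁ : G → ℂ) n) (fun n : N => (χ₂ : G → ℂ) n)
      = ((orbitCard N φ * e₁ * e₂ : ℕ) : ℂ) := by
  classical
  have : Fintype (IrrCharacter N) := Fintype.ofFinite _
  have hcf : IsClassFunction N (fun n : N => (χ₁ : G → ℂ) n) :=
    isClassFunction_of_isCharacter
      (IsCharacter.restrict (isCharacter_of_isIrrCharacter χ₁.2) N)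
  rw [classInner_eq_sum _ _ hcf]
  have hterm : ∀ θ : IrrCharacter N,
      classInner (fun n : N => (χ₁ : G → ℂ) n) (θ : N → ℂ) *
          conj (classInner (fun n : N => (χ₂ : G → ℂ) n) (θ : N → ℂ))
        = if (∃ g : G, (θ : N → ℂ) = conjFun N (φ : N → ℂ) g) then ((e₁ * e₂ : ℕ) : ℂ)
          else 0 := by
    intro θ
    split_ifs with hθ
    · obtain ⟨g, hg⟩ := hθ
      rw [hg, classInner_restrict_conjFun N (isClassFunction_of_isIrrCharacter χ₁.2),
        classInner_restrict_conjFun N (isClassFunction_of_isIrrCharacter χ₂.2), he₁, he₂]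
      simp
    · push Not at hθ
      rw [clifford_conj N χ₁.2 φ.2 (by rw [he₁]; exact Nat.cast_ne_zero.mpr h1) θ.2 hθ,
        zero_mul]
  rw [Finset.sum_congr rfl (fun θ _ => hterm θ), ← Finset.sum_filter, Finset.sum_const,
    nsmul_eq_mul]
  unfold orbitCard
  rw [Nat.card_eq_fintype_card, Fintype.card_subtype]
  push_cast
  ring

/-- over an irreducible character of a normal subgroup of odd index there is at most one real
irreducible character -/
theorem real_over_unique (N : Subgroup G) [N.Normal] [Fintype N] (hodd : Odd N.index)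
    (φ : IrrCharacter N) (χ₁ χ₂ : IrrCharacter G)
    (h₁ : ∀ g, conj ((χ₁ : G → ℂ) g) = (χ₁ : G → ℂ) g)
    (h₂ : ∀ g, conj ((χ₂ : G → ℂ) g) = (χ₂ : G → ℂ) g)
    (ho₁ : classInner (fun n : N => (χ₁ : G → ℂ) n) (φ : N → ℂ) ≠ 0)
    (ho₂ : classInner (fun n : N => (χ₂ : G → ℂ) n) (φ : N → ℂ) ≠ 0) : χ₁ = χ₂ := by
  obtain ⟨e₁, he₁⟩ := classInner_isCharacter_nat
    (IsCharacter.restrict (isCharacter_of_isIrrCharacter χ₁.2) N)
    (isCharacter_of_isIrrCharacter φ.2)
  obtain ⟨e₂, he₂⟩ := classInner_isCharacter_nat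
    (IsCharacter.restrict (isCharacter_of_isIrrCharacter χ₂.2) N)
    (isCharacter_of_isIrrCharacter φ.2)
  have h1 : e₁ ≠ 0 := by
    rintro rfl
    exact ho₁ (by rw [he₁]; simp)
  have h2 : e₂ ≠ 0 := by
    rintro rfl
    exact ho₂ (by rw [he₂]; simp)
  obtain ⟨A11, hA11, hp11⟩ := restrict_inner_parity N hodd χ₁ χ₁ h₁ h₁
  obtain ⟨A22, hA22, hp22⟩ := restrict_inner_parity N hodd χ₂ χ₂ h₂ h₂
  obtain ⟨A12, hA12, hp12⟩ := restrict_inner_parity N hodd χ₁ χ₂ h₁ h₂
  rw [restrict_inner_orbit N φ χ₁ χ₁ e₁ e₁ he₁ he₁ h1] at hA11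
  rw [restrict_inner_orbit N φ χ₂ χ₂ e₂ e₂ he₂ he₂ h2] at hA22
  rw [restrict_inner_orbit N φ χ₁ χ₂ e₁ e₂ he₁ he₂ h1] at hA12
  have e11 := Nat.cast_injective (R := ℂ) hA11
  have e22 := Nat.cast_injective (R := ℂ) hA22
  have e12 := Nat.cast_injective (R := ℂ) hA12
  rw [← e11, if_pos rfl] at hp11
  rw [← e22, if_pos rfl] at hp22
  rw [← e12] at hp12
  by_contra hne
  rw [if_neg hne] at hp12
  push_cast at hp11 hp22 hp12
  have key : ∀ a b c : ZMod 2, a * b * b = 1 → a * c * c = 1 → a * b * c = 0 → False := by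
    decide
  exact key _ _ _ hp11 hp22 hp12

end normal

end Cfsg.Agent.Lib.Helper26
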