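import Mathlib
import Cfsg.Agent.Lib.Helper2.CharBridge
import Cfsg.Agent.Lib.Helper2.CharExpand
import Cfsg.Agent.Lib.Helper2.CharDecomp
import Cfsg.Agent.Lib.Helper2.CharClifford
import Cfsg.Agent.Lib.Helper2.CharProd
import Cfsg.Agent.Lib.Helper2.CharPerm
import Cfsg.Agent.Lib.Helper2.CharLinear
import Cfsg.Agent.Lib.Helper2.CharBasic
import Cfsg.Agent.Lib.Helper2.IndFun
import Cfsg.Agent.Lib.Helper25.Defect0
import Cfsg.Agent.Lib.Helper26.OddIndex

set_option autoImplicit false

namespace Cfsg.Agent.Lib.Helper26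

open Cfsg Cfsg.Agent.Lib.Helper2 Cfsg.Agent.Lib.Helper25
open scoped ComplexConjugate
open scoped commutatorElement

section indstab

variable {G : Type*} [Group G] [Fintype G]

theorem indFun_coe_of_le (N : Subgroup G) [hN : N.Normal] (I : Subgroup G) (hNI : N ≤ I)
    (φ : N → ℂ) (ψ : I → ℂ) (hext : ∀ n : N, ψ (Subgroup.inclusion hNI n) = φ n) (n : N) :
    indFun I ψ (n : G) = (Nat.card I : ℂ)⁻¹ * ∑ x : G, conjFun N φ x⁻¹ n := by
  rw [indFun_apply]
  congr 1
  apply Finset.sum_congr rfl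
  intro x _
  have hmem : x⁻¹ * (n : G) * x ∈ N := by
    have := hN.conj_mem n n.2 x⁻¹
    simpa using this
  have h1 : (⟨x⁻¹ * (n : G) * x, hNI hmem⟩ : I)
      = Subgroup.inclusion hNI ⟨x⁻¹ * (n : G) * x, hmem⟩ := rfl
  rw [extendByZero_of_mem I ψ (hNI hmem), h1, hext, conjFun_apply]
  congr 1
  apply Subtype.ext
  simp

theorem indFun_restrict_of_le (N : Subgroup G) [hN : N.Normal] (I : Subgroup G) (hNI : N ≤ I)
    (φ : N → ℂ) (ψ : I → ℂ) (hext : ∀ n : N, ψ (Subgroup.inclusion hNI n) = φ n) :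
    (fun n : N => indFun I ψ (n : G)) = (Nat.card I : ℂ)⁻¹ • ∑ x : G, conjFun N φ x⁻¹ := by
  funext n
  rw [indFun_coe_of_le N I hNI φ ψ hext]
  simp [Finset.sum_apply]

/-- `[(ψ^G)_N, φ] = 1` when `ψ` extends `φ` to its stabilizer `I` -/
theorem classInner_indFun_restrict_stab (N : Subgroup G) [hN : N.Normal] [Fintype N]
    (I : Subgroup G) [Fintype I] (hNI : N ≤ I) (φ : N → ℂ) (hφ : IsIrrCharacter N φ) (ψ : I → ℂ)
    (hext : ∀ n : N, ψ (Subgroup.inclusion hNI n) = φ n)
    (hI : ∀ g : G, g ∈ I ↔ conjFun N φ g = φ) :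
    classInner (fun n : N => indFun I ψ (n : G)) φ = 1 := by
  classical
  rw [indFun_restrict_of_le N I hNI φ ψ hext, classInner_smul_left, classInner_sum_left]
  have h1 : ∀ x : G, classInner (conjFun N φ x⁻¹) φ
      = if x ∈ I then (fun _ : G => (1 : ℂ)) x else 0 := by
    intro x
    by_cases hx : x ∈ I
    · rw [if_pos hx, (hI x⁻¹).mp (I.inv_mem hx)]
      exact classInner_irr_self hφ
    · rw [if_neg hx]
      apply classInner_irr_ne (conjFun_irr N hφ x⁻¹) hφ
      intro h
      exact hx (by simpa using I.inv_mem ((hI x⁻¹).mpr h))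
  rw [Finset.sum_congr rfl (fun x _ => h1 x), sum_ite_mem_subgroup I (fun _ => (1 : ℂ)),
    Finset.sum_const, Finset.card_univ, nsmul_eq_mul, mul_one, ← Nat.card_eq_fintype_card]
  exact inv_mul_cancel₀ (card_ne_zero_complex I)

/-- `[(ψ^G)_N, (ψ^G)_N] = [G : I]` when `ψ` extends `φ` to its stabilizer `I` -/
theorem classInner_indFun_restrict_norm (N : Subgroup G) [hN : N.Normal] [Fintype N]
    (I : Subgroup G) [Fintype I] (hNI : N ≤ I) (φ : N → ℂ) (hφ : IsIrrCharacter N φ) (ψ : I → ℂ)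
    (hext : ∀ n : N, ψ (Subgroup.inclusion hNI n) = φ n)
    (hI : ∀ g : G, g ∈ I ↔ conjFun N φ g = φ) :
    classInner (fun n : N => indFun I ψ (n : G)) (fun n : N => indFun I ψ (n : G))
      = (I.index : ℂ) := by
  classical
  have h0 := classInner_indFun_restrict_stab N I hNI φ hφ ψ hext hI
  have hr := indFun_restrict_of_le N I hNI φ ψ hext
  have h2 : classInner (fun n : N => indFun I ψ (n : G)) (fun n : N => indFun I ψ (n : G))
      = classInner ((Nat.card I : ℂ)⁻¹ • ∑ x : G, conjFun N φ x⁻¹)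
        (fun n : N => indFun I ψ (n : G)) := by
    rw [← hr]
  rw [h2, classInner_smul_left, classInner_sum_left]
  have h1 : ∀ x : G, classInner (conjFun N φ x⁻¹) (fun n : N => indFun I ψ (n : G)) = 1 := by
    intro x
    rw [← classInner_conj_symm,
      classInner_restrict_conjFun N (indFun_isClassFunction I ψ) φ x⁻¹, h0, map_one]
  rw [Finset.sum_congr rfl (fun x _ => h1 x), Finset.sum_const, Finset.card_univ, nsmul_eq_mul,
    mul_one, ← Nat.card_eq_fintype_card, ← Subgroup.card_mul_index I]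
  have := card_ne_zero_complex I
  push_cast
  field_simp

/-- Clifford correspondence, the case of an extension: if `ψ` extends `φ` to its stabilizer
`I`, then `ψ^G` is irreducible -/
theorem indFun_stab_irr (N : Subgroup G) [hN : N.Normal] [Fintype N] (I : Subgroup G) [Fintype I]
    (hNI : N ≤ I) (φ : N → ℂ) (hφ : IsIrrCharacter N φ) (ψ : I → ℂ) (hψ : IsIrrCharacter I ψ)
    (hext : ∀ n : N, ψ (Subgroup.inclusion hNI n) = φ n)
    (hI : ∀ g : G, g ∈ I ↔ conjFun N φ g = φ) :
    IsIrrCharacter G (indFun I ψ) := by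
  classical
  have := Fintype.ofFinite (IrrCharacter G)
  have := Fintype.ofFinite (IrrCharacter I)
  have hψc := isCharacter_of_isIrrCharacter hψ
  have hφc := isCharacter_of_isIrrCharacter hφ
  have hΘc : IsCharacter G (indFun I ψ) := indFun_isCharacter I hψc
  have hΘcf := indFun_isClassFunction I ψ
  have ha : ∀ χ : IrrCharacter G, ∃ a : ℕ, classInner (indFun I ψ) χ = (a : ℂ) :=
    fun χ => classInner_isCharacter_nat hΘc (isCharacter_of_isIrrCharacter χ.2)
  choose a ha using ha
  have he : ∀ χ : IrrCharacter G, ∃ e : ℕ,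
      classInner (fun n : N => (χ : G → ℂ) n) φ = (e : ℂ) :=
    fun χ => classInner_isCharacter_nat
      (IsCharacter.restrict (isCharacter_of_isIrrCharacter χ.2) N) hφc
  choose e he using he
  have hae : ∀ χ : IrrCharacter G, a χ ≤ e χ := by
    intro χ
    have hχI : IsCharacter I (fun h : I => (χ : G → ℂ) h) :=
      IsCharacter.restrict (isCharacter_of_isIrrCharacter χ.2) I
    have hc : ∀ ψ' : IrrCharacter I, ∃ c : ℕ,
        classInner (fun h : I => (χ : G → ℂ) h) ψ' = (c : ℂ) :=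
      fun ψ' => classInner_isCharacter_nat hχI (isCharacter_of_isIrrCharacter ψ'.2)
    choose c hc using hc
    have hr : ∀ ψ' : IrrCharacter I, ∃ r : ℕ,
        classInner (fun n : N => (ψ' : I → ℂ) (Subgroup.inclusion hNI n)) φ = (r : ℂ) :=
      fun ψ' => classInner_isCharacter_nat
        (IsCharacter.comp_hom (isCharacter_of_isIrrCharacter ψ'.2) (Subgroup.inclusion hNI)) hφc
    choose r hr using hr
    have hexp := class_fun_expand (fun h : I => (χ : G → ℂ) h)
      (isClassFunction_of_isCharacter hχI)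
    have hres : (fun n : N => (χ : G → ℂ) n)
        = ∑ ψ' : IrrCharacter I,
          (c ψ' : ℂ) • (fun n : N => (ψ' : I → ℂ) (Subgroup.inclusion hNI n)) := by
      funext n
      have h5 := congrFun hexp (Subgroup.inclusion hNI n)
      rw [Finset.sum_apply] at h5 ⊢
      simp only [Pi.smul_apply, smul_eq_mul, hc] at h5 ⊢
      exact h5
    have hsum : (e χ : ℂ) = ((∑ ψ' : IrrCharacter I, c ψ' * r ψ' : ℕ) : ℂ) := by
      rw [← he, hres, classInner_sum_left]
      push_cast
      apply Finset.sum_congr rfl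
      intro ψ' _
      rw [classInner_smul_left, hr]
    have hsum' : e χ = ∑ ψ' : IrrCharacter I, c ψ' * r ψ' := by exact_mod_cast hsum
    have h1 : a χ = c ⟨ψ, hψ⟩ := by
      have h2 : (a χ : ℂ) = (c ⟨ψ, hψ⟩ : ℂ) := by
        rw [← ha, frobenius_reciprocity I ψ χ (isClassFunction_of_isIrrCharacter χ.2),
          ← classInner_conj_symm]
        have := hc ⟨ψ, hψ⟩
        simp only at this
        rw [this]
        simp
      exact_mod_cast h2
    have h3 : r ⟨ψ, hψ⟩ = 1 := by
      have h4 : (r ⟨ψ, hψ⟩ : ℂ) = 1 := by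
        rw [← hr]
        have h5 : (fun n : N => ψ (Subgroup.inclusion hNI n)) = φ := funext hext
        change classInner (fun n : N => ψ (Subgroup.inclusion hNI n)) φ = 1
        rw [h5]
        exact classInner_irr_self hφ
      exact_mod_cast h4
    rw [hsum', h1]
    calc c ⟨ψ, hψ⟩ = c ⟨ψ, hψ⟩ * r ⟨ψ, hψ⟩ := by rw [h3, mul_one]
      _ ≤ ∑ ψ' : IrrCharacter I, c ψ' * r ψ' :=
        Finset.single_le_sum (f := fun ψ' => c ψ' * r ψ') (fun _ _ => Nat.zero_le _)
          (Finset.mem_univ _)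
  have hexpΘ := class_fun_expand (indFun I ψ) hΘcf
  have hsum1 : ∑ χ : IrrCharacter G, a χ * e χ = 1 := by
    have h1 : ((∑ χ : IrrCharacter G, a χ * e χ : ℕ) : ℂ) = 1 := by
      rw [← classInner_indFun_restrict_stab N I hNI φ hφ ψ hext hI]
      have hres : (fun n : N => indFun I ψ (n : G))
          = ∑ χ : IrrCharacter G, (a χ : ℂ) • (fun n : N => (χ : G → ℂ) n) := by
        funext n
        have h5 := congrFun hexpΘ (n : G)
        rw [Finset.sum_apply] at h5 ⊢
        simp only [Pi.smul_apply, smul_eq_mul, ha] at h5 ⊢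
        exact h5
      rw [hres, classInner_sum_left]
      push_cast
      apply Finset.sum_congr rfl
      intro χ _
      rw [classInner_smul_left, he]
    exact_mod_cast h1
  have hsq : ∑ χ : IrrCharacter G, a χ * a χ = 1 := by
    have hle : ∑ χ : IrrCharacter G, a χ * a χ ≤ ∑ χ : IrrCharacter G, a χ * e χ :=
      Finset.sum_le_sum (fun χ _ => Nat.mul_le_mul_left _ (hae χ))
    have hpos : 0 < ∑ χ : IrrCharacter G, a χ * a χ := by
      by_contra h0
      have h0' : ∑ χ : IrrCharacter G, a χ * a χ = 0 := by omega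
      have hall : ∀ χ : IrrCharacter G, a χ = 0 := by
        intro χ
        have := (Finset.sum_eq_zero_iff.mp h0') χ (Finset.mem_univ _)
        exact mul_self_eq_zero.mp this
      have h00 : ∑ χ : IrrCharacter G, a χ * e χ = 0 :=
        Finset.sum_eq_zero (fun χ _ => by rw [hall χ, zero_mul])
      omega
    omega
  apply isIrrCharacter_of_norm_one hΘc
  rw [classInner_eq_sum _ _ hΘcf]
  have hterm : ∀ χ : IrrCharacter G,
      classInner (indFun I ψ) χ * conj (classInner (indFun I ψ) χ) = ((a χ * a χ : ℕ) : ℂ) := by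
    intro χ
    rw [ha]
    simp
  rw [Finset.sum_congr rfl (fun χ _ => hterm χ), ← Nat.cast_sum, hsq, Nat.cast_one]

theorem isCharacter_mul_conj {χ : G → ℂ} (hχ : IsIrrCharacter G χ) :
    IsCharacter G (fun g => χ g * conj (χ g)) := by
  have hχc := isCharacter_of_isIrrCharacter hχ
  have h1 : IsCharacter G (χ ∘ (fun g : G => g⁻¹)) :=
    isCharacter_of_isIrrCharacter (isIrrCharacter_comp_inv hχ)
  have h2 := IsCharacter.mul hχc h1
  have h3 : (fun g => χ g * conj (χ g)) = χ * (χ ∘ (fun g : G => g⁻¹)) := by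
    funext g
    obtain ⟨n, ρ, rfl⟩ := hχc
    simp only [Pi.mul_apply, Function.comp_apply]
    rw [char_inv]
  rw [h3]
  exact h2

theorem hom_of_charDegree_one (χ : IrrCharacter G) (h : charDegree (χ : G → ℂ) = 1) :
    ∃ lam : G →* ℂˣ, (χ : G → ℂ) = fun g => (lam g : ℂ) := by
  obtain ⟨d, hd1, _, _, hd⟩ := irr_degree χ
  apply hom_of_irr_deg_one χ.2
  rw [hd1, ← hd, h]
  simp

theorem norm_hom_eq_one (lam : G →* ℂˣ) (g : G) : ‖(lam g : ℂ)‖ = 1 := by
  have h1 : (lam g : ℂ) ^ orderOf g = 1 := by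
    rw [← Units.val_pow_eq_pow_val, ← map_pow, pow_orderOf_eq_one, map_one, Units.val_one]
  exact Complex.norm_eq_one_of_pow_eq_one h1 (orderOf_pos g).ne'

theorem hom_mul_conj (lam : G →* ℂˣ) (g : G) : (lam g : ℂ) * conj (lam g : ℂ) = 1 := by
  rw [Complex.mul_conj, Complex.normSq_eq_norm_sq, norm_hom_eq_one]
  simp

/-- the product of a linear character and an irreducible character is irreducible -/
theorem isIrrCharacter_hom_mul (lam : G →* ℂˣ) {Θ : G → ℂ} (hΘ : IsIrrCharacter G Θ) :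
    IsIrrCharacter G ((fun g => (lam g : ℂ)) * Θ) := by
  apply isIrrCharacter_of_norm_one (IsCharacter.mul
    (isCharacter_of_isIrrCharacter (isIrrCharacter_of_hom lam)) (isCharacter_of_isIrrCharacter hΘ))
  rw [← classInner_irr_self hΘ, classInner_def, classInner_def]
  congr 1
  apply Finset.sum_congr rfl
  intro g _
  simp only [Pi.mul_apply, map_mul]
  calc (lam g : ℂ) * Θ g * (conj (lam g : ℂ) * conj (Θ g))
      = ((lam g : ℂ) * conj (lam g : ℂ)) * (Θ g * conj (Θ g)) := by ring
    _ = Θ g * conj (Θ g) := by rw [hom_mul_conj, one_mul]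

omit [Fintype G] in
theorem hom_eq_one_of_perfect (N : Subgroup G) (hperf : ⁅N, N⁆ = N) (lam : G →* ℂˣ) (n : G)
    (hn : n ∈ N) : lam n = 1 := by
  have h1 : ⁅N, N⁆ ≤ lam.ker := by
    rw [Subgroup.commutator_le]
    intro a _ b _
    rw [MonoidHom.mem_ker, map_commutatorElement]
    exact commutatorElement_eq_one_iff_commute.mpr (Commute.all _ _)
  rw [hperf] at h1
  exact h1 hn

omit [Fintype G] in
theorem perfect_of_minimal_nonabelian (N : Subgroup G) [hN : N.Normal]
    (hmin : ∀ M : Subgroup G, M.Normal → M ≤ N → M = ⊥ ∨ M = N) (hna : ¬ IsMulCommutative ↥N) :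
    ⁅N, N⁆ = N := by
  have hC : (⁅N, N⁆ : Subgroup G).Normal := Subgroup.commutator_normal N N
  have hle : ⁅N, N⁆ ≤ N := Subgroup.commutator_le_left N N
  rcases hmin _ hC hle with h | h
  · exfalso
    apply hna
    refine ⟨⟨fun a b => ?_⟩⟩
    have h1 : ⁅(a : G), (b : G)⁆ ∈ ⁅N, N⁆ := Subgroup.commutator_mem_commutator a.2 b.2
    rw [h, Subgroup.mem_bot, commutatorElement_eq_one_iff_mul_comm] at h1
    exact Subtype.ext h1
  · exact h

end indstab

end Cfsg.Agent.Lib.Helper26
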