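import Mathlib
import Cfsg.Prelude.Def_Characters
import Cfsg.Prelude.Def_Transfer
import Cfsg.Agent.Lib.Helper2.CharOrtho
import Cfsg.Agent.Lib.Helper2.CharBridge
import Cfsg.Agent.Lib.Helper2.CharLinear
import Cfsg.Agent.Lib.Helper2.CharBasic
import Cfsg.Agent.Lib.Helper2.CharIntegral

set_option autoImplicit false

/-!
# Irreducible characters vanishing off two conjugacy classes (Gagola characters)
-/

namespace Cfsg.Agent.Lib.Helper26

open Cfsg Cfsg.Agent.Lib.Helper2 Representation Module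

open scoped ComplexConjugate

section kernel

variable {G : Type*} [Group G] [Finite G]

/-- an element at which a character takes its degree lies in the kernel -/
theorem char_mul_of_eq_one {χ : G → ℂ} (hχ : IsCharacter G χ) {x : G} (hx : χ x = χ 1) (g : G) :
    χ (g * x) = χ g := by
  obtain ⟨n, ρ, rfl⟩ := hχ
  rw [Representation.char_one] at hx
  have h1 := (char_eq_finrank_iff ρ x).mp hx
  unfold Representation.character
  rw [map_mul, h1]
  rfl

theorem char_mul_of_eq_one' {χ : G → ℂ} (hχ : IsCharacter G χ) {x : G} (hx : χ x = χ 1) (g : G) :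
    χ (x * g) = χ g := by
  obtain ⟨n, ρ, rfl⟩ := hχ
  rw [Representation.char_one] at hx
  have h1 := (char_eq_finrank_iff ρ x).mp hx
  unfold Representation.character
  rw [map_mul, h1]
  rfl

theorem char_inv_of_eq_one {χ : G → ℂ} (hχ : IsCharacter G χ) {x : G} (hx : χ x = χ 1) :
    χ x⁻¹ = χ 1 := by
  have h := char_mul_of_eq_one hχ hx x⁻¹
  rw [inv_mul_cancel] at h
  exact h.symm

/-- the intersection of the kernels of the irreducible characters other than `χ` -/
def coKernel (χ : IrrCharacter G) : Subgroup G where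
  carrier := {g | ∀ ψ : IrrCharacter G, ψ ≠ χ → (ψ : G → ℂ) g = (ψ : G → ℂ) 1}
  one_mem' := fun _ _ => rfl
  mul_mem' := by
    intro a b ha hb ψ hψ
    show (ψ : G → ℂ) (a * b) = (ψ : G → ℂ) 1
    rw [char_mul_of_eq_one (isCharacter_of_isIrrCharacter ψ.2) (hb ψ hψ)]
    exact ha ψ hψ
  inv_mem' := by
    intro a ha ψ hψ
    exact char_inv_of_eq_one (isCharacter_of_isIrrCharacter ψ.2) (ha ψ hψ)

theorem mem_coKernel {χ : IrrCharacter G} {g : G} :
    g ∈ coKernel χ ↔ ∀ ψ : IrrCharacter G, ψ ≠ χ → (ψ : G → ℂ) g = (ψ : G → ℂ) 1 := Iff.rfl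

instance coKernel_normal (χ : IrrCharacter G) : (coKernel χ).Normal := by
  constructor
  intro n hn g ψ hψ
  show (ψ : G → ℂ) (g * n * g⁻¹) = (ψ : G → ℂ) 1
  rw [isClassFunction_of_isIrrCharacter ψ.2 n g]
  exact hn ψ hψ

end kernel

section sums

variable {G : Type*} [Group G] [Fintype G]

open Classical in
/-- a sum over the group of a function supported on the identity and one class -/
theorem sum_two_class (f : G → ℂ) (x : G) (hx1 : x ≠ 1)
    (hsupp : ∀ g, g ≠ 1 → ¬ IsConj x g → f g = 0) (hcl : ∀ g, IsConj x g → f g = f x) :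
    ∑ g : G, f g = f 1 + ((Finset.univ.filter (fun g : G => IsConj x g)).card : ℂ) * f x := by
  have h1 : ∀ g : G, f g = (if g = 1 then f 1 else 0) + (if IsConj x g then f x else 0) := by
    intro g
    by_cases hg : g = 1
    · subst hg
      rw [if_pos rfl, if_neg, add_zero]
      intro h
      exact hx1 (isConj_one_right.mp h.symm)
    · rw [if_neg hg, zero_add]
      by_cases hc : IsConj x g
      · rw [if_pos hc, hcl g hc]
      · rw [if_neg hc, hsupp g hg hc]
  rw [Finset.sum_congr rfl (fun g _ => h1 g), Finset.sum_add_distrib, Finset.sum_ite_eq']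
  simp only [Finset.mem_univ, if_true]
  rw [← Finset.sum_filter, Finset.sum_const, nsmul_eq_mul]

end sums

section main

variable {G : Type*} [Group G] [Finite G]

/-- a finite group with only two conjugacy classes has order two -/
theorem card_le_two_of_two_classes (x : G) (hx : x ≠ 1) (h : ∀ g : G, g ≠ 1 → IsConj x g) :
    Nat.card G ≤ 2 := by
  classical
  have : Fintype G := Fintype.ofFinite G
  have h1 := card_isConj_eq_index x
  have h2 : (Finset.univ.filter (fun g : G => IsConj x g)) = Finset.univ.erase 1 := by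
    ext g
    simp only [Finset.mem_filter, Finset.mem_univ, true_and, Finset.mem_erase, and_true]
    constructor
    · intro hc hg
      subst hg
      exact hx (isConj_one_right.mp hc.symm)
    · exact h g
  rw [h2, Finset.card_erase_of_mem (Finset.mem_univ _), Finset.card_univ,
    ← Nat.card_eq_fintype_card] at h1
  have h3 := Subgroup.index_mul_card (Subgroup.centralizer ({x} : Set G))
  have h4 : 1 < Nat.card (Subgroup.centralizer ({x} : Set G)) := by
    rw [Subgroup.one_lt_card_iff_ne_bot]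
    intro hbot
    have : x ∈ Subgroup.centralizer ({x} : Set G) := by
      rw [Subgroup.mem_centralizer_iff]
      intro y hy
      rw [Set.mem_singleton_iff.mp hy]
    rw [hbot, Subgroup.mem_bot] at this
    exact hx this
  rw [← h1] at h3
  have h5 : 0 < Nat.card G := Nat.card_pos
  by_contra hcon
  push Not at hcon
  have h6 : (Nat.card G - 1) * 2 ≤ (Nat.card G - 1) * Nat.card (Subgroup.centralizer ({x} : Set G)) :=
    Nat.mul_le_mul_left _ h4
  omega

/-- the basic data of an irreducible character which is nonzero on exactly two classes -/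
theorem two_class_data (hG : 2 < Nat.card G) (χ : IrrCharacter G)
    (hχ : Nat.card {C : ConjClasses G // ∃ g ∈ C.carrier, (χ : G → ℂ) g ≠ 0} = 2) :
    ∃ x : G, x ≠ 1 ∧ (χ : G → ℂ) x ≠ 0 ∧ (∀ g, (χ : G → ℂ) g ≠ 0 → g = 1 ∨ IsConj x g) ∧
      (∀ ψ : IrrCharacter G, ψ ≠ χ → (ψ : G → ℂ) x = (ψ : G → ℂ) 1) ∧
      (χ : G → ℂ) x ≠ (χ : G → ℂ) 1 ∧
      ((Subgroup.centralizer ({x} : Set G)).index : ℂ) * (χ : G → ℂ) x = - (χ : G → ℂ) 1 ∧
      ((χ : G → ℂ) ≠ fun _ => (1 : ℂ)) := by
  classical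
  have : Fintype G := Fintype.ofFinite G
  obtain ⟨n, hn0, hn⟩ := irr_apply_one χ.2
  have hχ1 : (χ : G → ℂ) 1 ≠ 0 := by
    rw [hn]; exact_mod_cast hn0.ne'
  obtain ⟨c₂, hc₂, huniq⟩ := (Nat.card_eq_two_iff'
    (⟨ConjClasses.mk 1, 1, ConjClasses.mem_carrier_mk, hχ1⟩ :
      {C : ConjClasses G // ∃ g ∈ C.carrier, (χ : G → ℂ) g ≠ 0})).mp hχ
  obtain ⟨x, hxmem, hx0⟩ := c₂.2
  have hxc : ConjClasses.mk x = c₂.1 := ConjClasses.mem_carrier_iff_mk_eq.mp hxmem
  have hx1 : x ≠ 1 := by
    intro h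
    apply hc₂
    apply Subtype.ext
    show c₂.1 = ConjClasses.mk 1
    rw [← hxc, h]
  have hsupp : ∀ g, (χ : G → ℂ) g ≠ 0 → g = 1 ∨ IsConj x g := by
    intro g hg
    by_cases h1 : g = 1
    · exact Or.inl h1
    · right
      have h2 := huniq ⟨ConjClasses.mk g, g, ConjClasses.mem_carrier_mk, hg⟩ (by
        intro h3
        have h4 : ConjClasses.mk g = ConjClasses.mk 1 := congrArg Subtype.val h3
        rw [ConjClasses.mk_eq_mk_iff_isConj] at h4
        exact h1 (isConj_one_right.mp h4.symm))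
      have h5 : ConjClasses.mk g = c₂.1 := congrArg Subtype.val h2
      rw [← hxc, ConjClasses.mk_eq_mk_iff_isConj] at h5
      exact h5.symm
  -- χ is not the principal character
  have htriv : IsIrrCharacter G (fun _ => (1 : ℂ)) := isIrrCharacter_one
  have hne : (χ : G → ℂ) ≠ fun _ => (1 : ℂ) := by
    intro h
    have := card_le_two_of_two_classes x hx1 (fun g hg => by
      rcases hsupp g (by rw [h]; exact one_ne_zero) with h1 | h1
      · exact absurd h1 hg
      · exact h1)
    omega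
  have hχc := isClassFunction_of_isIrrCharacter χ.2
  -- the orthogonality relations
  have key : ∀ ψ : G → ℂ, IsIrrCharacter G ψ → (χ : G → ℂ) ≠ ψ →
      (χ : G → ℂ) 1 * conj (ψ 1) + ((Finset.univ.filter (fun g : G => IsConj x g)).card : ℂ) *
        ((χ : G → ℂ) x * conj (ψ x)) = 0 := by
    intro ψ hψ hne'
    have h1 := classInner_irr_ne χ.2 hψ hne'
    rw [classInner_def] at h1
    have h2 : ∑ g : G, (χ : G → ℂ) g * conj (ψ g) = 0 := by
      rcases mul_eq_zero.mp h1 with h | h
      · exact absurd h (inv_ne_zero (card_ne_zero_complex G))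
      · exact h
    rw [sum_two_class (fun g => (χ : G → ℂ) g * conj (ψ g)) x hx1] at h2
    · exact h2
    · intro g hg hc
      have : (χ : G → ℂ) g = 0 := by
        by_contra h0
        rcases hsupp g h0 with h | h
        · exact hg h
        · exact hc h
      show (χ : G → ℂ) g * conj (ψ g) = 0
      rw [this, zero_mul]
    · intro g hc
      show (χ : G → ℂ) g * conj (ψ g) = (χ : G → ℂ) x * conj (ψ x)
      rw [IsClassFunction.of_isConj hχc hc.symm,
        IsClassFunction.of_isConj (isClassFunction_of_isIrrCharacter hψ) hc.symm]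
  have h0 := key _ htriv hne
  simp only [map_one, mul_one] at h0
  have hk : ((Finset.univ.filter (fun g : G => IsConj x g)).card : ℂ) * (χ : G → ℂ) x
      = - (χ : G → ℂ) 1 := by
    rw [eq_neg_iff_add_eq_zero, add_comm]; exact h0
  refine ⟨x, hx1, hx0, hsupp, ?_, ?_, ?_, hne⟩
  · intro ψ hψ
    have h1 := key _ ψ.2 (fun h => hψ (Subtype.ext h.symm))
    rw [← mul_assoc, hk, neg_mul, ← sub_eq_add_neg, ← mul_sub] at h1
    rcases mul_eq_zero.mp h1 with h | h
    · exact absurd h hχ1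
    · have h2 := sub_eq_zero.mp h
      exact ((starRingEnd ℂ).injective h2).symm
  · intro h
    rw [h] at hk
    have h2 : (((Finset.univ.filter (fun g : G => IsConj x g)).card : ℂ) + 1) * (χ : G → ℂ) 1 = 0 := by
      rw [add_mul, hk, one_mul, neg_add_cancel]
    rcases mul_eq_zero.mp h2 with h3 | h3
    · exact Nat.cast_add_one_ne_zero _ h3
    · exact hχ1 h3
  · rw [← card_isConj_eq_index x]; exact hk

/-- the co-kernel of a two-class character is the set where it does not vanish -/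
theorem mem_coKernel_iff_ne_zero (hG : 2 < Nat.card G) (χ : IrrCharacter G)
    (hχ : Nat.card {C : ConjClasses G // ∃ g ∈ C.carrier, (χ : G → ℂ) g ≠ 0} = 2) (g : G) :
    g ∈ coKernel χ ↔ (χ : G → ℂ) g ≠ 0 := by
  classical
  have : Fintype G := Fintype.ofFinite G
  have : Fintype (IrrCharacter G) := Fintype.ofFinite _
  obtain ⟨x, hx1, hx0, hsupp, hker, hxne, hidx, hnet⟩ := two_class_data hG χ hχ
  obtain ⟨n, hn0, hn⟩ := irr_apply_one χ.2
  have hχ1 : (χ : G → ℂ) 1 ≠ 0 := by
    rw [hn]; exact_mod_cast hn0.ne'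
  constructor
  · intro hg
    by_cases hg1 : g = 1
    · rw [hg1]; exact hχ1
    intro h0
    have hcol := column_orthogonality g (1 : G)
    rw [colFun_of_not_isConj (fun h => hg1 (isConj_one_right.mp h.symm))] at hcol
    have hd : ∀ ψ : IrrCharacter G, ∃ d : ℕ, 0 < d ∧ (ψ : G → ℂ) 1 = (d : ℂ) :=
      fun ψ => irr_apply_one ψ.2
    choose d hd0 hd using hd
    have h2 : ∀ ψ : IrrCharacter G, (ψ : G → ℂ) g * conj ((ψ : G → ℂ) 1)
        = (((if ψ = χ then 0 else d ψ * d ψ : ℕ)) : ℂ) := by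
      intro ψ
      by_cases hψ : ψ = χ
      · rw [if_pos hψ, hψ, h0, zero_mul, Nat.cast_zero]
      · rw [if_neg hψ, hg ψ hψ, hd ψ, Complex.conj_natCast, Nat.cast_mul]
    rw [Finset.sum_congr rfl (fun ψ _ => h2 ψ), ← Nat.cast_sum, Nat.cast_eq_zero] at hcol
    have h3 := (Finset.sum_eq_zero_iff.mp hcol)
      (⟨fun _ => (1 : ℂ), isIrrCharacter_one⟩ : IrrCharacter G) (Finset.mem_univ _)
    have htne : (⟨fun _ => (1 : ℂ), isIrrCharacter_one⟩ : IrrCharacter G) ≠ χ := by
      intro h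
      apply hnet
      rw [← h]
    rw [if_neg htne] at h3
    have := hd0 (⟨fun _ => (1 : ℂ), isIrrCharacter_one⟩ : IrrCharacter G)
    rcases Nat.mul_eq_zero.mp h3 with h | h <;> omega
  · intro hg ψ hψ
    rcases hsupp g hg with h | h
    · rw [h]
    · rw [← IsClassFunction.of_isConj (isClassFunction_of_isIrrCharacter ψ.2) h]
      exact hker ψ hψ

/-- the non-identity elements of the co-kernel form one conjugacy class -/
theorem coKernel_conj (hG : 2 < Nat.card G) (χ : IrrCharacter G)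
    (hχ : Nat.card {C : ConjClasses G // ∃ g ∈ C.carrier, (χ : G → ℂ) g ≠ 0} = 2)
    {a b : G} (ha : a ∈ coKernel χ) (hb : b ∈ coKernel χ) (ha1 : a ≠ 1) (hb1 : b ≠ 1) :
    IsConj a b := by
  obtain ⟨x, hx1, hx0, hsupp, hker, hxne, hidx, hnet⟩ := two_class_data hG χ hχ
  have hconj : ∀ n ∈ coKernel χ, n ≠ 1 → IsConj x n := by
    intro n hn hn1
    rcases hsupp n ((mem_coKernel_iff_ne_zero hG χ hχ n).mp hn) with h | h
    · exact absurd h hn1
    · exact h
  exact (hconj a ha ha1).symm.trans (hconj b hb hb1)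

theorem coKernel_ne_bot (hG : 2 < Nat.card G) (χ : IrrCharacter G)
    (hχ : Nat.card {C : ConjClasses G // ∃ g ∈ C.carrier, (χ : G → ℂ) g ≠ 0} = 2) :
    coKernel χ ≠ ⊥ := by
  obtain ⟨x, hx1, hx0, hsupp, hker, hxne, hidx, hnet⟩ := two_class_data hG χ hχ
  intro h
  have hx : x ∈ coKernel χ := (mem_coKernel_iff_ne_zero hG χ hχ x).mpr hx0
  rw [h, Subgroup.mem_bot] at hx
  exact hx1 hx

/-- every nontrivial normal subgroup contains the co-kernel -/
theorem coKernel_le_of_normal (hG : 2 < Nat.card G) (χ : IrrCharacter G)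
    (hχ : Nat.card {C : ConjClasses G // ∃ g ∈ C.carrier, (χ : G → ℂ) g ≠ 0} = 2)
    (K : Subgroup G) (hK : K.Normal) (hK1 : K ≠ ⊥) : coKernel χ ≤ K := by
  classical
  have : Fintype G := Fintype.ofFinite G
  have : Fintype (IrrCharacter G) := Fintype.ofFinite _
  obtain ⟨k, hkK, hk1⟩ : ∃ k ∈ K, k ≠ 1 := by
    by_contra hcon
    push Not at hcon
    exact hK1 ((Subgroup.eq_bot_iff_forall K).mpr hcon)
  by_cases hk0 : (χ : G → ℂ) k = 0
  · intro n hn
    have hcol := column_orthogonality (k * n) k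
    have hcol2 := column_orthogonality k k
    have heq : ∀ ψ : IrrCharacter G, (ψ : G → ℂ) (k * n) * conj ((ψ : G → ℂ) k)
        = (ψ : G → ℂ) k * conj ((ψ : G → ℂ) k) := by
      intro ψ
      by_cases hψ : ψ = χ
      · rw [hψ, hk0, map_zero, mul_zero, mul_zero]
      · rw [char_mul_of_eq_one (isCharacter_of_isIrrCharacter ψ.2) (hn ψ hψ)]
    rw [Finset.sum_congr rfl (fun ψ _ => heq ψ), hcol2, colFun_of_isConj (IsConj.refl k)] at hcol
    have hc : IsConj (k * n) k := by
      by_contra hnc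
      rw [colFun_of_not_isConj hnc] at hcol
      exact (card_ne_zero_complex _) hcol
    obtain ⟨c, hc⟩ := isConj_iff.mp hc
    have h1 : k * n ∈ K := by
      have h2 := hK.conj_mem k hkK c⁻¹
      rw [← hc] at h2
      have e : c⁻¹ * (c * (k * n) * c⁻¹) * c⁻¹⁻¹ = k * n := by group
      rwa [e] at h2
    have h3 := K.mul_mem (K.inv_mem hkK) h1
    rwa [inv_mul_cancel_left] at h3
  · intro n hn
    by_cases hn1 : n = 1
    · rw [hn1]; exact K.one_mem
    · have hkN : k ∈ coKernel χ := (mem_coKernel_iff_ne_zero hG χ hχ k).mpr hk0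
      obtain ⟨c, hc⟩ := isConj_iff.mp (coKernel_conj hG χ hχ hkN hn hk1 hn1)
      rw [← hc]; exact hK.conj_mem k hkK c

/-- the co-kernel of a two-class character is an elementary abelian `p`-group -/
theorem coKernel_elementary (hG : 2 < Nat.card G) (χ : IrrCharacter G)
    (hχ : Nat.card {C : ConjClasses G // ∃ g ∈ C.carrier, (χ : G → ℂ) g ≠ 0} = 2) :
    ∃ p : ℕ, p.Prime ∧ IsElementaryAbelian p (coKernel χ) := by
  obtain ⟨x, hx1, hx0, hsupp, hker, hxne, hidx, hnet⟩ := two_class_data hG χ hχ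
  have hxN : x ∈ coKernel χ := (mem_coKernel_iff_ne_zero hG χ hχ x).mpr hx0
  have hox : orderOf x ≠ 1 := by rw [Ne, orderOf_eq_one_iff]; exact hx1
  obtain ⟨p, hp, hpd⟩ := Nat.exists_prime_and_dvd hox
  obtain ⟨y, hyN, hy⟩ : ∃ y ∈ coKernel χ, orderOf y = p :=
    ⟨_, Subgroup.pow_mem _ hxN _, orderOf_pow_orderOf_div (orderOf_pos x).ne' hpd⟩
  have hy1 : y ≠ 1 := by
    intro h
    rw [h, orderOf_one] at hy
    exact hp.one_lt.ne hy
  have hyp : y ^ p = 1 := by rw [← hy]; exact pow_orderOf_eq_one y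
  have hpow : ∀ n ∈ coKernel χ, n ^ p = 1 := by
    intro n hn
    by_cases hn1 : n = 1
    · rw [hn1, one_pow]
    · obtain ⟨c, hc⟩ := isConj_iff.mp (coKernel_conj hG χ hχ hyN hn hy1 hn1)
      rw [← hc, conj_pow, hyp, mul_one, mul_inv_cancel]
  refine ⟨p, hp, ?_, hpow⟩
  have : Fact p.Prime := ⟨hp⟩
  have hpg : IsPGroup p (coKernel χ) := by
    intro n
    refine ⟨1, ?_⟩
    apply Subtype.ext
    rw [pow_one, Subgroup.coe_pow, hpow n n.2]
    rfl
  have hnt : Nontrivial (coKernel χ) :=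
    ⟨⟨⟨x, hxN⟩, 1, fun h => hx1 (congrArg Subtype.val h)⟩⟩
  have hcen := hpg.center_nontrivial
  obtain ⟨z, hz1⟩ := exists_ne (1 : Subgroup.center (coKernel χ))
  have hz1' : ((z : coKernel χ) : G) ≠ 1 := by
    intro h
    apply hz1
    apply Subtype.ext
    apply Subtype.ext
    exact h
  refine ⟨⟨fun a b => ?_⟩⟩
  apply Subtype.ext
  show (a : G) * (b : G) = (b : G) * (a : G)
  by_cases hb1 : (b : G) = 1
  · rw [hb1, mul_one, one_mul]
  · obtain ⟨c, hc⟩ := isConj_iff.mp (coKernel_conj hG χ hχ (z : coKernel χ).2 b.2 hz1' hb1)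
    have hmem : c⁻¹ * (a : G) * c ∈ coKernel χ := by
      have := (coKernel_normal χ).conj_mem _ a.2 c⁻¹
      rwa [inv_inv] at this
    have h1 := Subgroup.mem_center_iff.mp z.2 ⟨c⁻¹ * (a : G) * c, hmem⟩
    have h2 : c⁻¹ * (a : G) * c * ((z : coKernel χ) : G)
        = ((z : coKernel χ) : G) * (c⁻¹ * (a : G) * c) := congrArg Subtype.val h1
    rw [← hc]
    calc (a : G) * (c * ((z : coKernel χ) : G) * c⁻¹)
        = c * (c⁻¹ * (a : G) * c * ((z : coKernel χ) : G)) * c⁻¹ := by group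
      _ = c * (((z : coKernel χ) : G) * (c⁻¹ * (a : G) * c)) * c⁻¹ := by rw [h2]
      _ = c * ((z : coKernel χ) : G) * c⁻¹ * (a : G) := by group

/-- a two-class character is faithful -/
theorem two_class_faithful (hG : 2 < Nat.card G) (χ : IrrCharacter G)
    (hχ : Nat.card {C : ConjClasses G // ∃ g ∈ C.carrier, (χ : G → ℂ) g ≠ 0} = 2) (g : G)
    (hg : (χ : G → ℂ) g = (χ : G → ℂ) 1) : g = 1 := by
  obtain ⟨x, hx1, hx0, hsupp, hker, hxne, hidx, hnet⟩ := two_class_data hG χ hχ
  obtain ⟨n, hn0, hn⟩ := irr_apply_one χ.2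
  have hχ1 : (χ : G → ℂ) 1 ≠ 0 := by
    rw [hn]; exact_mod_cast hn0.ne'
  rcases hsupp g (by rw [hg]; exact hχ1) with h | h
  · exact h
  · exfalso
    apply hxne
    rw [← hg]
    exact IsClassFunction.of_isConj (isClassFunction_of_isIrrCharacter χ.2) h

/-- the only faithful irreducible character -/
theorem two_class_unique_faithful (hG : 2 < Nat.card G) (χ : IrrCharacter G)
    (hχ : Nat.card {C : ConjClasses G // ∃ g ∈ C.carrier, (χ : G → ℂ) g ≠ 0} = 2)
    (ψ : IrrCharacter G) (hψ : ∀ g : G, (ψ : G → ℂ) g = (ψ : G → ℂ) 1 → g = 1) : ψ = χ := by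
  obtain ⟨x, hx1, hx0, hsupp, hker, hxne, hidx, hnet⟩ := two_class_data hG χ hχ
  by_contra hne
  exact hx1 (hψ x (hker ψ hne))

end main

end Cfsg.Agent.Lib.Helper26
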