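import Mathlib
import Cfsg.Prelude.Def_Characters
import Cfsg.Agent.Lib.Lead.TIFN
import Cfsg.Agent.Lib.Lead.TIFN2
import Cfsg.Agent.S0850
import Cfsg.Agent.S4757

set_option autoImplicit false

/-!
Exceptional characters for a T.I. subgroup `K` of prime order with Frobenius normalizer:
values on `K ∖ 1` and degrees modulo `|K|` of all irreducible characters of `G`
(the elementary part of Brauer's theory of groups with a self-centralizing Sylow subgroup
of prime order).
-/

namespace Cfsg.Agent.Lib.Helper26.ExcChar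

open Cfsg.Agent.Lib.Helper2 Cfsg.Agent.Lib.Lead.TIFN
open scoped ComplexConjugate
open Classical

noncomputable section

section nside

variable {M : Type*} [Group M] [Fintype M] [Fintype (Cfsg.IrrCharacter M)]

/-- relevant characters of an abelian Frobenius kernel have degree the index -/
theorem rel_deg (H : Subgroup M) [H.Normal]
    (hC : ∀ h ∈ H, h ≠ 1 → ∀ x : M, x * h = h * x → x ∈ H)
    (hab : ∀ a b : H, a * b = b * a) (θ : Cfsg.IrrCharacter M) (hr : Rel H θ) :
    deg θ = H.index := by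
  have h1 := deg_eq_index H hC hab θ.2 hr
  rw [deg_spec] at h1
  exact_mod_cast h1

/-- the relevant characters sum to `-1` on `H ∖ 1` -/
theorem sum_rel_val (H : Subgroup M) [H.Normal]
    (hC : ∀ h ∈ H, h ≠ 1 → ∀ x : M, x * h = h * x → x ∈ H)
    (hab : ∀ a b : H, a * b = b * a) {h : M} (hh : h ∈ H) (h1 : h ≠ 1) :
    (∑ θ : Cfsg.IrrCharacter M, if Rel H θ then (θ : M → ℂ) h else 0) = -1 := by
  have hs := sum_rel_mul H hh h1
  have hidx : (H.index : ℂ) ≠ 0 := by
    have : H.index ≠ 0 := Subgroup.index_ne_zero_of_finite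
    exact_mod_cast this
  have e : (∑ θ : Cfsg.IrrCharacter M, if Rel H θ then (θ : M → ℂ) h * (deg θ : ℂ) else 0)
      = (∑ θ : Cfsg.IrrCharacter M, if Rel H θ then (θ : M → ℂ) h else 0) * (H.index : ℂ) := by
    rw [Finset.sum_mul]
    apply Finset.sum_congr rfl
    intro θ _
    split_ifs with hr
    · rw [rel_deg H hC hab θ hr]
    · simp
  rw [e] at hs
  have : ((∑ θ : Cfsg.IrrCharacter M, if Rel H θ then (θ : M → ℂ) h else 0) + 1) * (H.index : ℂ) = 0 := by
    linear_combination hs
  rcases mul_eq_zero.mp this with h0 | h0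
  · linear_combination h0
  · exact absurd h0 hidx

/-- squared absolute values of the relevant characters at an element of `H ∖ 1` -/
theorem sum_rel_norm (H : Subgroup M) [H.Normal] {h : M} (hh : h ∈ H) :
    (∑ θ : Cfsg.IrrCharacter M, if Rel H θ then (θ : M → ℂ) h * conj ((θ : M → ℂ) h) else 0)
      = (Nat.card (Subgroup.centralizer ({h} : Set M)) : ℂ) - (H.index : ℂ) := by
  have h1 := Cfsg.Agent.S4757.sum_norm_sq h
  have h2 := sum_nonrel_sq H
  have h3 : ∑ θ : Cfsg.IrrCharacter M, (θ : M → ℂ) h * conj ((θ : M → ℂ) h)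
      = (∑ θ : Cfsg.IrrCharacter M, if Rel H θ then (θ : M → ℂ) h * conj ((θ : M → ℂ) h) else 0)
        + (∑ θ : Cfsg.IrrCharacter M, if Rel H θ then 0 else ((deg θ : ℂ)) ^ 2) := by
    rw [← Finset.sum_add_distrib]
    apply Finset.sum_congr rfl
    intro θ _
    split_ifs with hr
    · ring
    · rw [not_rel_apply hr hh, Complex.conj_natCast]
      ring
  rw [h3, h2] at h1
  linear_combination h1

/-- the number of relevant characters -/
theorem card_rel (H : Subgroup M) [H.Normal]
    (hC : ∀ h ∈ H, h ≠ 1 → ∀ x : M, x * h = h * x → x ∈ H)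
    (hab : ∀ a b : H, a * b = b * a) :
    ((Finset.univ.filter (fun θ : Cfsg.IrrCharacter M => Rel H θ)).card : ℤ) * (H.index : ℤ) ^ 2
      = (Nat.card M : ℤ) - (H.index : ℤ) := by
  have h1 := sum_rel_sq_int H
  rw [← h1, Finset.card_eq_sum_ones, Nat.cast_sum, Finset.sum_mul, Finset.sum_filter]
  apply Finset.sum_congr rfl
  intro θ _
  split_ifs with hr
  · rw [rel_deg H hC hab θ hr]
    push_cast
    ring
  · rfl

end nside

section gside

variable {G : Type*} [Group G] [Fintype G]

/-- multiplicities of irreducible characters of a subgroup in a restriction are natural -/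
theorem mult_nat (L : Subgroup G) [Fintype L] (ψ : Cfsg.IrrCharacter G)
    (θ : Cfsg.IrrCharacter L) :
    ∃ n : ℕ, Cfsg.classInner (fun x : L => (ψ : G → ℂ) x) (θ : L → ℂ) = (n : ℂ) :=
  classInner_isCharacter_nat (IsCharacter.restrict (isCharacter_of_isIrrCharacter ψ.2) L)
    (isCharacter_of_isIrrCharacter θ.2)

/-- Frobenius reciprocity applied to a difference of two characters whose induced
difference is `ε (X - X')`. -/
theorem frob_diff (L : Subgroup G) [Fintype L] (ε : ℂ) (θ θ' : Cfsg.IrrCharacter L)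
    (X X' ψ : Cfsg.IrrCharacter G)
    (hind : Cfsg.indFun L ((θ : L → ℂ) - (θ' : L → ℂ)) = ε • ((X : G → ℂ) - (X' : G → ℂ))) :
    Cfsg.classInner (fun x : L => (ψ : G → ℂ) x) (θ : L → ℂ)
      - Cfsg.classInner (fun x : L => (ψ : G → ℂ) x) (θ' : L → ℂ)
      = ε * ((if X = ψ then 1 else 0) - (if X' = ψ then 1 else 0)) := by
  have hfr := frobenius_reciprocity L ((θ : L → ℂ) - (θ' : L → ℂ)) (ψ : G → ℂ)
    (isClassFunction_of_isIrrCharacter ψ.2)
  rw [hind, classInner_smul_left, classInner_sub_left, classInner_sub_left,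
    classInner_irr X.2 ψ.2, classInner_irr X'.2 ψ.2] at hfr
  obtain ⟨n, hn⟩ := mult_nat L ψ θ
  obtain ⟨n', hn'⟩ := mult_nat L ψ θ'
  have e1 : Cfsg.classInner (θ : L → ℂ) (fun x : L => (ψ : G → ℂ) x) = n := by
    rw [← classInner_conj_symm, hn, Complex.conj_natCast]
  have e2 : Cfsg.classInner (θ' : L → ℂ) (fun x : L => (ψ : G → ℂ) x) = n' := by
    rw [← classInner_conj_symm, hn', Complex.conj_natCast]
  rw [e1, e2] at hfr
  rw [hn, hn', ← hfr]
  have c1 : ((X : G → ℂ) = (ψ : G → ℂ)) ↔ X = ψ := Subtype.ext_iff.symm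
  have c2 : ((X' : G → ℂ) = (ψ : G → ℂ)) ↔ X' = ψ := Subtype.ext_iff.symm
  by_cases h1 : X = ψ <;> by_cases h2 : X' = ψ <;> simp [h1, h2, c1, c2]

end gside

section comb

variable {A B : Type*} [Fintype A] [Fintype B] {R : A → Prop} {F : A → B → Prop}
  {β : Type*} [AddCommMonoid β]

theorem sum_F (hF1 : ∀ a b, F a b → R a) (hF2 : ∀ a b b', F a b → F a b' → b = b')
    (hF4 : ∀ a, R a → ∃ b, F a b) (g : A → β) :
    ∑ b : B, ∑ a : A, (if F a b then g a else 0) = ∑ a : A, if R a then g a else 0 := by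
  rw [Finset.sum_comm]
  apply Finset.sum_congr rfl
  intro a _
  by_cases hr : R a
  · obtain ⟨b₀, hb₀⟩ := hF4 a hr
    rw [if_pos hr, Finset.sum_eq_single b₀]
    · rw [if_pos hb₀]
    · intro b _ hb
      rw [if_neg]
      intro h
      exact hb (hF2 a b b₀ h hb₀)
    · intro h; exact absurd (Finset.mem_univ _) h
  · rw [if_neg hr]
    apply Finset.sum_eq_zero
    intro b _
    rw [if_neg]
    intro h
    exact hr (hF1 a b h)

theorem s_of_F (hF3 : ∀ a a' b, F a b → F a' b → a = a') (g : A → β) {a : A} {b : B}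
    (h : F a b) : ∑ a' : A, (if F a' b then g a' else 0) = g a := by
  rw [Finset.sum_eq_single a]
  · rw [if_pos h]
  · intro a' _ ha'
    rw [if_neg]
    intro h'
    exact ha' (hF3 a' a b h' h)
  · intro h'; exact absurd (Finset.mem_univ _) h'

theorem s_of_not (g : A → β) {b : B} (h : ¬ ∃ a, F a b) :
    ∑ a' : A, (if F a' b then g a' else 0) = 0 := by
  apply Finset.sum_eq_zero
  intro a _
  rw [if_neg]
  intro h'
  exact h ⟨a, h'⟩

end comb

end

end Cfsg.Agent.Lib.Helper26.ExcChar
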