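import Cfsg.Agent.Lib.Helper26.ExcChar

set_option autoImplicit false

namespace Cfsg.Agent.Lib.Helper26.ExcChar

open Cfsg.Agent.Lib.Helper2 Cfsg.Agent.Lib.Lead.TIFN
open scoped ComplexConjugate
open Classical

noncomputable section

variable {G : Type*} [Group G] [Fintype G] (K : Subgroup G)

local notation "𝓝" => Subgroup.normalizer ((K : Subgroup G) : Set G)
local notation "𝓗" => Subgroup.subgroupOf K (Subgroup.normalizer ((K : Subgroup G) : Set G))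

set_option maxHeartbeats 1600000 in
/-- Exceptional character data for a T.I. subgroup `K` with Frobenius normalizer. -/
theorem exc_data
    (hTI : ∀ g : G, g ∉ 𝓝 → ∀ k ∈ K, g * k * g⁻¹ ∈ K → k = 1)
    (hlt : K < 𝓝)
    (hC : ∀ k ∈ K, k ≠ 1 → Subgroup.centralizer ({k} : Set G) ≤ K)
    (hab : ∀ a ∈ K, ∀ b ∈ K, a * b = b * a)
    (p e : ℕ) (hp : Nat.card K = p) (hp2 : 2 ≤ p)
    (he : (𝓗).index = e)
    [Fintype (Cfsg.IrrCharacter G)] :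
    ∃ (ε c₀ : ℤ) (x : ℕ) (E : Finset (Cfsg.IrrCharacter G)) (c : Cfsg.IrrCharacter G → ℤ),
      (ε = 1 ∨ ε = -1) ∧ E.card * e = p - 1 ∧
      (∀ ψ ∈ E, deg ψ = x ∧ c ψ = c₀) ∧
      (∃ m : ℤ, (x : ℤ) = c₀ + ε * e + m * p) ∧
      (∀ ψ, ψ ∉ E → (∃ m : ℤ, (deg ψ : ℤ) = c ψ + m * p) ∧
        ∀ k ∈ K, k ≠ 1 → (ψ : G → ℂ) k = (c ψ : ℂ)) ∧
      ∑ ψ, (c ψ) ^ 2 = e + 2 * ε * c₀ ∧
      ∑ ψ, c ψ * (deg ψ : ℤ) = ε * x := by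
  have : Fintype (Cfsg.IrrCharacter ↥𝓝) := Fintype.ofFinite _
  have hC' := hC_sub K hC
  have habH : ∀ a b : ↥𝓗, a * b = b * a :=
    fun a b => Subtype.ext (Subtype.ext (hab _ a.2 _ b.2))
  obtain ⟨εc, f, hε, hinj, hind⟩ : ∃ (ε : ℂ)
      (f : {χ : Cfsg.IrrCharacter ↥𝓝 // Rel 𝓗 (χ : ↥𝓝 → ℂ)} → Cfsg.IrrCharacter G),
      (ε = 1 ∨ ε = -1) ∧ Function.Injective f ∧
      ∀ χ ξ, Cfsg.indFun 𝓝 ((χ.1 : ↥𝓝 → ℂ) - (ξ.1 : ↥𝓝 → ℂ))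
        = ε • ((f χ : G → ℂ) - (f ξ : G → ℂ)) := main851 K hTI hC hab
  -- basic cardinalities
  have hcardH : Nat.card ↥𝓗 = p := by
    rw [← hp]
    exact Nat.card_congr (Subgroup.subgroupOfEquivOfLe hlt.le).toEquiv
  have hcardN : Nat.card ↥𝓝 = p * e := by
    rw [← Subgroup.card_mul_index 𝓗, hcardH, he]
  have he0 : e ≠ 0 := by
    rw [← he]
    exact Subgroup.index_ne_zero_of_finite
  have hrelcard : (Finset.univ.filter (fun θ : Cfsg.IrrCharacter ↥𝓝 => Rel 𝓗 (θ : ↥𝓝 → ℂ))).card * e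
      = p - 1 := by
    have h1 := card_rel 𝓗 hC' habH
    rw [he, hcardN] at h1
    have h2 : ((Finset.univ.filter (fun θ : Cfsg.IrrCharacter ↥𝓝 => Rel 𝓗 (θ : ↥𝓝 → ℂ))).card : ℤ) * e
        = (p : ℤ) - 1 := by
      have he' : (e : ℤ) ≠ 0 := by exact_mod_cast he0
      apply mul_right_cancel₀ he'
      push_cast at h1 ⊢
      linear_combination h1
    zify [show 1 ≤ p by omega]
    exact h2
  -- a nontrivial element of K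
  obtain ⟨k₁, hk₁, hk₁ne⟩ : ∃ k ∈ K, k ≠ 1 := by
    rcases K.bot_or_exists_ne_one with h | h
    · exfalso
      rw [h, Subgroup.card_bot] at hp
      omega
    · exact h
  have hk₁N : k₁ ∈ 𝓝 := hlt.le hk₁
  obtain ⟨h₁, hh₁⟩ : ∃ h₁ : ↥𝓝, h₁ = ⟨k₁, hk₁N⟩ := ⟨_, rfl⟩
  have hh₁H : h₁ ∈ 𝓗 := by
    rw [hh₁, Subgroup.mem_subgroupOf]
    exact hk₁
  have hh₁ne : h₁ ≠ 1 := by
    rw [hh₁]
    intro h
    exact hk₁ne (congrArg Subtype.val h)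
  have hh₁val : (h₁ : G) = k₁ := by rw [hh₁]
  -- a relevant character
  obtain ⟨θ₀, hr₀⟩ : ∃ θ₀ : Cfsg.IrrCharacter ↥𝓝, Rel 𝓗 (θ₀ : ↥𝓝 → ℂ) := by
    have hpos : 0 < (Finset.univ.filter
        (fun θ : Cfsg.IrrCharacter ↥𝓝 => Rel 𝓗 (θ : ↥𝓝 → ℂ))).card := by
      rcases Nat.eq_zero_or_pos (Finset.univ.filter
        (fun θ : Cfsg.IrrCharacter ↥𝓝 => Rel 𝓗 (θ : ↥𝓝 → ℂ))).card with h | h
      · rw [h] at hrelcard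
        omega
      · exact h
    obtain ⟨θ, hθ⟩ := Finset.card_pos.mp hpos
    exact ⟨θ, (Finset.mem_filter.mp hθ).2⟩
  -- the relation F
  obtain ⟨F, hFdef⟩ : ∃ F : Cfsg.IrrCharacter ↥𝓝 → Cfsg.IrrCharacter G → Prop,
      ∀ θ ψ, F θ ψ ↔ ∃ hr : Rel 𝓗 (θ : ↥𝓝 → ℂ), f ⟨θ, hr⟩ = ψ := ⟨_, fun _ _ => Iff.rfl⟩
  have hF1 : ∀ (θ : Cfsg.IrrCharacter ↥𝓝) (ψ : Cfsg.IrrCharacter G), F θ ψ → Rel 𝓗 (θ : ↥𝓝 → ℂ) := by
    intro θ ψ h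
    obtain ⟨hr, -⟩ := (hFdef θ ψ).mp h
    exact hr
  have hF2 : ∀ θ ψ ψ', F θ ψ → F θ ψ' → ψ = ψ' := by
    intro θ ψ ψ' h h'
    obtain ⟨hr, e1⟩ := (hFdef θ ψ).mp h
    obtain ⟨hr', e2⟩ := (hFdef θ ψ').mp h'
    rw [← e1, ← e2]
  have hF3 : ∀ θ θ' ψ, F θ ψ → F θ' ψ → θ = θ' := by
    intro θ θ' ψ h h'
    obtain ⟨hr, e1⟩ := (hFdef θ ψ).mp h
    obtain ⟨hr', e2⟩ := (hFdef θ' ψ).mp h'
    have := hinj (e1.trans e2.symm)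
    exact congrArg Subtype.val this
  have hF4 : ∀ θ : Cfsg.IrrCharacter ↥𝓝, Rel 𝓗 (θ : ↥𝓝 → ℂ) → ∃ ψ, F θ ψ := by
    intro θ hr
    exact ⟨f ⟨θ, hr⟩, (hFdef θ _).mpr ⟨hr, rfl⟩⟩
  have hFiff : ∀ (θ : Cfsg.IrrCharacter ↥𝓝) (ψ : Cfsg.IrrCharacter G) (hr : Rel 𝓗 (θ : ↥𝓝 → ℂ)),
      f ⟨θ, hr⟩ = ψ ↔ F θ ψ := by
    intro θ ψ hr
    rw [hFdef]
    exact ⟨fun h => ⟨hr, h⟩, fun ⟨_, h⟩ => h⟩
  -- multiplicities
  choose na hna using fun (ψ : Cfsg.IrrCharacter G) (θ : Cfsg.IrrCharacter ↥𝓝) => mult_nat 𝓝 ψ θ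
  obtain ⟨εz, hεz, hεzc⟩ : ∃ z : ℤ, (z = 1 ∨ z = -1) ∧ (z : ℂ) = εc := by
    rcases hε with h | h
    · exact ⟨1, Or.inl rfl, by rw [h]; simp⟩
    · exact ⟨-1, Or.inr rfl, by rw [h]; simp⟩
  have hεsq : εc * εc = 1 := by
    rcases hε with h | h <;> rw [h] <;> ring
  have hεconj : conj εc = εc := by
    rcases hε with h | h <;> rw [h] <;> simp
  have hkey : ∀ (ψ : Cfsg.IrrCharacter G) (θ θ' : Cfsg.IrrCharacter ↥𝓝),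
      Rel 𝓗 (θ : ↥𝓝 → ℂ) → Rel 𝓗 (θ' : ↥𝓝 → ℂ) →
      (na ψ θ : ℂ) - (na ψ θ' : ℂ)
        = εc * ((if F θ ψ then 1 else 0) - (if F θ' ψ then 1 else 0)) := by
    intro ψ θ θ' hr hr'
    have h := frob_diff 𝓝 εc θ θ' (f ⟨θ, hr⟩) (f ⟨θ', hr'⟩) ψ (hind ⟨θ, hr⟩ ⟨θ', hr'⟩)
    rw [hna, hna] at h
    rw [h]
    simp only [hFiff]
  -- b and the multiplicity formula
  obtain ⟨bz, hbz⟩ : ∃ bz : Cfsg.IrrCharacter G → ℤ,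
      ∀ ψ, bz ψ = (na ψ θ₀ : ℤ) - εz * (if F θ₀ ψ then 1 else 0) := ⟨_, fun _ => rfl⟩
  have hb : ∀ (ψ : Cfsg.IrrCharacter G) (θ : Cfsg.IrrCharacter ↥𝓝), Rel 𝓗 (θ : ↥𝓝 → ℂ) →
      (na ψ θ : ℂ) = (bz ψ : ℂ) + εc * (if F θ ψ then 1 else 0) := by
    intro ψ θ hr
    have h := hkey ψ θ θ₀ hr hr₀
    rw [hbz]
    push_cast
    rw [hεzc]
    split_ifs at h ⊢ <;> push_cast <;> linear_combination h
  obtain ⟨Bn, hBn⟩ : ∃ Bn : Cfsg.IrrCharacter G → ℕ, ∀ ψ, Bn ψ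
      = ∑ θ : Cfsg.IrrCharacter ↥𝓝, if Rel 𝓗 (θ : ↥𝓝 → ℂ) then 0 else na ψ θ * deg θ :=
    ⟨_, fun _ => rfl⟩
  obtain ⟨cz, hcz⟩ : ∃ cz : Cfsg.IrrCharacter G → ℤ, ∀ ψ, cz ψ = (Bn ψ : ℤ) - bz ψ :=
    ⟨_, fun _ => rfl⟩
  obtain ⟨s, hs⟩ : ∃ s : Cfsg.IrrCharacter G → ↥𝓝 → ℂ, ∀ ψ h, s ψ h
      = ∑ θ : Cfsg.IrrCharacter ↥𝓝, if F θ ψ then (θ : ↥𝓝 → ℂ) h else 0 := ⟨_, fun _ _ => rfl⟩
  have hexp : ∀ (ψ : Cfsg.IrrCharacter G) (n : ↥𝓝), (ψ : G → ℂ) n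
      = ∑ θ : Cfsg.IrrCharacter ↥𝓝, (na ψ θ : ℂ) * (θ : ↥𝓝 → ℂ) n := by
    intro ψ n
    have hcl : Cfsg.IsClassFunction ↥𝓝 (fun x : ↥𝓝 => (ψ : G → ℂ) x) :=
      isClassFunction_of_isCharacter
        (IsCharacter.restrict (isCharacter_of_isIrrCharacter ψ.2) 𝓝)
    have h := congrFun (class_fun_expand (fun x : ↥𝓝 => (ψ : G → ℂ) x) hcl) n
    rw [Finset.sum_apply] at h
    simp only [Pi.smul_apply, smul_eq_mul, hna] at h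
    exact h
  have hBc : ∀ ψ, (Bn ψ : ℂ) = ∑ θ : Cfsg.IrrCharacter ↥𝓝,
      if Rel 𝓗 (θ : ↥𝓝 → ℂ) then 0 else (na ψ θ : ℂ) * (deg θ : ℂ) := by
    intro ψ
    rw [hBn]
    push_cast
    apply Finset.sum_congr rfl
    intro θ _
    split_ifs <;> simp
  have P1 : ∀ (ψ : Cfsg.IrrCharacter G) (h : ↥𝓝), h ∈ 𝓗 → h ≠ 1 →
      (ψ : G → ℂ) h = (cz ψ : ℂ) + εc * s ψ h := by
    intro ψ h hh hne
    have hterm : ∀ θ : Cfsg.IrrCharacter ↥𝓝, (na ψ θ : ℂ) * (θ : ↥𝓝 → ℂ) h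
        = (bz ψ : ℂ) * (if Rel 𝓗 (θ : ↥𝓝 → ℂ) then (θ : ↥𝓝 → ℂ) h else 0)
          + εc * (if F θ ψ then (θ : ↥𝓝 → ℂ) h else 0)
          + (if Rel 𝓗 (θ : ↥𝓝 → ℂ) then 0 else (na ψ θ : ℂ) * (deg θ : ℂ)) := by
      intro θ
      by_cases hr : Rel 𝓗 (θ : ↥𝓝 → ℂ)
      · rw [hb ψ θ hr, if_pos hr, if_pos hr]
        split_ifs <;> ring
      · have hnF : ¬ F θ ψ := fun hF => hr (hF1 θ ψ hF)
        rw [if_neg hr, if_neg hr, if_neg hnF, not_rel_apply hr hh]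
        ring
    rw [hexp, Finset.sum_congr rfl (fun θ _ => hterm θ), Finset.sum_add_distrib,
      Finset.sum_add_distrib, ← Finset.mul_sum, ← Finset.mul_sum,
      sum_rel_val 𝓗 hC' habH hh hne, ← hBc, ← hs, hcz]
    push_cast
    ring
  obtain ⟨u, hu⟩ : ∃ u : Cfsg.IrrCharacter G → ℕ, ∀ ψ, u ψ = if ∃ θ, F θ ψ then 1 else 0 :=
    ⟨_, fun _ => rfl⟩
  have hsumu : ∀ ψ, (∑ θ : Cfsg.IrrCharacter ↥𝓝, if F θ ψ then (1 : ℂ) else 0) = (u ψ : ℂ) := by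
    intro ψ
    rw [hu]
    by_cases hE : ∃ θ, F θ ψ
    · obtain ⟨θ, hθ⟩ := hE
      rw [if_pos ⟨θ, hθ⟩, s_of_F hF3 (fun _ => (1 : ℂ)) hθ]
      simp
    · rw [if_neg hE, s_of_not (fun _ => (1 : ℂ)) hE]
      simp
  have hsumrel : (∑ θ : Cfsg.IrrCharacter ↥𝓝, if Rel 𝓗 (θ : ↥𝓝 → ℂ) then (e : ℂ) else 0)
      = (p : ℂ) - 1 := by
    rw [← Finset.sum_filter, Finset.sum_const, nsmul_eq_mul]
    have : (((Finset.univ.filter (fun θ : Cfsg.IrrCharacter ↥𝓝 => Rel 𝓗 (θ : ↥𝓝 → ℂ))).card * e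
        : ℕ) : ℂ) = ((p - 1 : ℕ) : ℂ) := by rw [hrelcard]
    rw [Nat.cast_sub (by omega)] at this
    push_cast at this
    exact this
  have P2 : ∀ ψ : Cfsg.IrrCharacter G, (deg ψ : ℤ) = cz ψ + bz ψ * p + εz * e * u ψ := by
    intro ψ
    have hterm : ∀ θ : Cfsg.IrrCharacter ↥𝓝, (na ψ θ : ℂ) * (θ : ↥𝓝 → ℂ) 1
        = (bz ψ : ℂ) * (if Rel 𝓗 (θ : ↥𝓝 → ℂ) then (e : ℂ) else 0)
          + εc * (e : ℂ) * (if F θ ψ then (1 : ℂ) else 0)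
          + (if Rel 𝓗 (θ : ↥𝓝 → ℂ) then 0 else (na ψ θ : ℂ) * (deg θ : ℂ)) := by
      intro θ
      rw [deg_spec]
      by_cases hr : Rel 𝓗 (θ : ↥𝓝 → ℂ)
      · rw [hb ψ θ hr, if_pos hr, if_pos hr, rel_deg 𝓗 hC' habH θ hr, he]
        split_ifs <;> ring
      · have hnF : ¬ F θ ψ := fun hF => hr (hF1 θ ψ hF)
        rw [if_neg hr, if_neg hr, if_neg hnF]
        ring
    have h1 := hexp ψ 1
    rw [Finset.sum_congr rfl (fun θ _ => hterm θ), Finset.sum_add_distrib,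
      Finset.sum_add_distrib, ← Finset.mul_sum, ← Finset.mul_sum, hsumrel, hsumu, ← hBc] at h1
    have h2 : ((1 : ↥𝓝) : G) = 1 := rfl
    rw [h2, deg_spec] at h1
    have h3 : ((deg ψ : ℤ) : ℂ) = ((cz ψ + bz ψ * p + εz * e * u ψ : ℤ) : ℂ) := by
      rw [hcz]
      push_cast
      rw [hεzc, h1]
      ring
    exact_mod_cast h3
  -- the exceptional set
  obtain ⟨E, hE⟩ : ∃ E : Finset (Cfsg.IrrCharacter G), ∀ ψ, ψ ∈ E ↔ ∃ θ, F θ ψ :=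
    ⟨Finset.univ.filter (fun ψ => ∃ θ, F θ ψ), fun ψ => by simp⟩
  have hEcard : E.card = (Finset.univ.filter
      (fun θ : Cfsg.IrrCharacter ↥𝓝 => Rel 𝓗 (θ : ↥𝓝 → ℂ))).card := by
    have h1 : E.card = ∑ ψ : Cfsg.IrrCharacter G, if ψ ∈ E then 1 else 0 := by
      rw [Finset.card_eq_sum_ones, ← Finset.sum_filter]
      congr 1
      ext ψ
      simp
    have h2 : ∀ ψ : Cfsg.IrrCharacter G, (if ψ ∈ E then 1 else 0)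
        = ∑ θ : Cfsg.IrrCharacter ↥𝓝, (if F θ ψ then (1 : ℕ) else 0) := by
      intro ψ
      by_cases hψ : ψ ∈ E
      · obtain ⟨θ, hθ⟩ := (hE ψ).mp hψ
        rw [if_pos hψ, s_of_F hF3 (fun _ => (1 : ℕ)) hθ]
      · rw [if_neg hψ, s_of_not (fun _ => (1 : ℕ)) (fun h => hψ ((hE ψ).mpr h))]
    rw [h1, Finset.sum_congr rfl (fun ψ _ => h2 ψ), sum_F hF1 hF2 hF4 (fun _ => (1 : ℕ)),
      Finset.card_filter]
  obtain ⟨ψ₀, hψ₀⟩ := hF4 θ₀ hr₀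
  -- constancy on the exceptional set
  have hS := (Cfsg.Agent.S0850.result K hTI hlt hC).2
  have hsF : ∀ (ψ : Cfsg.IrrCharacter G) (θ : Cfsg.IrrCharacter ↥𝓝), F θ ψ →
      s ψ h₁ = (θ : ↥𝓝 → ℂ) h₁ := by
    intro ψ θ hθ
    rw [hs, s_of_F hF3 (fun θ : Cfsg.IrrCharacter ↥𝓝 => (θ : ↥𝓝 → ℂ) h₁) hθ]
  have hconst : ∀ ψ ∈ E, deg ψ = deg ψ₀ ∧ cz ψ = cz ψ₀ := by
    intro ψ hψ
    obtain ⟨θ, hθ⟩ := (hE ψ).mp hψ
    have hr := hF1 θ ψ hθ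
    have e1 : f ⟨θ, hr⟩ = ψ := (hFiff θ ψ hr).mpr hθ
    have e0 : f ⟨θ₀, hr₀⟩ = ψ₀ := (hFiff θ₀ ψ₀ hr₀).mpr hψ₀
    have hcl : Cfsg.IsClassFunction ↥𝓝 ((θ : ↥𝓝 → ℂ) - (θ₀ : ↥𝓝 → ℂ)) :=
      IsClassFunction.sub (isClassFunction_of_isIrrCharacter θ.2)
        (isClassFunction_of_isIrrCharacter θ₀.2)
    have hv : ∀ x : ↥𝓝, (x : G) ∉ K → ((θ : ↥𝓝 → ℂ) - (θ₀ : ↥𝓝 → ℂ)) x = 0 := by
      intro x hx
      have hx' : x ∉ 𝓗 := hx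
      rw [Pi.sub_apply, vanish_off 𝓗 hC' θ.2 hr x hx', vanish_off 𝓗 hC' θ₀.2 hr₀ x hx',
        sub_zero]
    have h1 : ((θ : ↥𝓝 → ℂ) - (θ₀ : ↥𝓝 → ℂ)) 1 = 0 := by
      rw [Pi.sub_apply, deg_spec, deg_spec, rel_deg 𝓗 hC' habH θ hr,
        rel_deg 𝓗 hC' habH θ₀ hr₀, sub_self]
    have hval := hS _ hcl hv h1
    have hi := hind ⟨θ, hr⟩ ⟨θ₀, hr₀⟩
    rw [e1, e0] at hi
    have hv1 := hval 1
    rw [hi, h1] at hv1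
    have hvh := hval h₁
    rw [hi] at hvh
    simp only [Pi.smul_apply, Pi.sub_apply, smul_eq_mul] at hv1 hvh
    have h2 : ((1 : ↥𝓝) : G) = 1 := rfl
    rw [h2, deg_spec, deg_spec] at hv1
    rw [P1 ψ h₁ hh₁H hh₁ne, P1 ψ₀ h₁ hh₁H hh₁ne, hsF ψ θ hθ, hsF ψ₀ θ₀ hψ₀] at hvh
    constructor
    · have h3 : (deg ψ : ℂ) = (deg ψ₀ : ℂ) := by
        linear_combination εc * hv1 - ((deg ψ : ℂ) - (deg ψ₀ : ℂ)) * hεsq
      exact_mod_cast h3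
    · have h3 : (cz ψ : ℂ) = (cz ψ₀ : ℂ) := by
        linear_combination εc * hvh - ((cz ψ : ℂ) - (cz ψ₀ : ℂ)
          + εc * ((θ : ↥𝓝 → ℂ) h₁ - (θ₀ : ↥𝓝 → ℂ) h₁)) * hεsq
      exact_mod_cast h3
  -- centralizer orders
  have hcG : Nat.card (Subgroup.centralizer ({k₁} : Set G)) = p := by
    rw [← hp]
    have : Subgroup.centralizer ({k₁} : Set G) = K := by
      apply le_antisymm (hC k₁ hk₁ hk₁ne)
      intro a ha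
      rw [Subgroup.mem_centralizer_singleton_iff]
      exact hab a ha k₁ hk₁
    rw [this]
  have hcM : Nat.card (Subgroup.centralizer ({h₁} : Set ↥𝓝)) = p := by
    rw [← hcardH]
    have : Subgroup.centralizer ({h₁} : Set ↥𝓝) = 𝓗 := by
      ext n
      rw [Subgroup.mem_centralizer_singleton_iff]
      constructor
      · intro h
        exact hC' h₁ hh₁H hh₁ne n h
      · intro hn
        have := habH ⟨n, hn⟩ ⟨h₁, hh₁H⟩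
        exact congrArg Subtype.val this
    rw [this]
  have hN3 := sum_rel_norm 𝓗 hh₁H
  rw [hcM, he] at hN3
  have hN2 := sum_rel_val 𝓗 hC' habH hh₁H hh₁ne
  have hψk : ∀ ψ : Cfsg.IrrCharacter G, (ψ : G → ℂ) k₁ = (cz ψ : ℂ) + εc * s ψ h₁ := by
    intro ψ
    have := P1 ψ h₁ hh₁H hh₁ne
    rw [hh₁val] at this
    exact this
  have hcs : ∀ ψ : Cfsg.IrrCharacter G, (cz ψ : ℂ) * s ψ h₁ = (cz ψ₀ : ℂ) * s ψ h₁ := by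
    intro ψ
    by_cases hψ : ψ ∈ E
    · rw [(hconst ψ hψ).2]
    · rw [hs, s_of_not _ (fun h => hψ ((hE ψ).mpr h))]
      ring
  have hds : ∀ ψ : Cfsg.IrrCharacter G, (deg ψ : ℂ) * s ψ h₁ = (deg ψ₀ : ℂ) * s ψ h₁ := by
    intro ψ
    by_cases hψ : ψ ∈ E
    · rw [(hconst ψ hψ).1]
    · rw [hs, s_of_not _ (fun h => hψ ((hE ψ).mpr h))]
      ring
  have hsum_s : ∑ ψ : Cfsg.IrrCharacter G, s ψ h₁ = -1 := by
    simp only [hs]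
    rw [sum_F hF1 hF2 hF4 (fun θ : Cfsg.IrrCharacter ↥𝓝 => (θ : ↥𝓝 → ℂ) h₁)]
    exact hN2
  have hsum_sc : ∑ ψ : Cfsg.IrrCharacter G, conj (s ψ h₁) = -1 := by
    rw [← map_sum, hsum_s]
    simp
  have hss : ∀ ψ : Cfsg.IrrCharacter G, s ψ h₁ * conj (s ψ h₁)
      = ∑ θ : Cfsg.IrrCharacter ↥𝓝,
          if F θ ψ then (θ : ↥𝓝 → ℂ) h₁ * conj ((θ : ↥𝓝 → ℂ) h₁) else 0 := by
    intro ψ
    by_cases hEx : ∃ θ, F θ ψ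
    · obtain ⟨θ, hθ⟩ := hEx
      rw [hsF ψ θ hθ, s_of_F hF3
        (fun θ : Cfsg.IrrCharacter ↥𝓝 => (θ : ↥𝓝 → ℂ) h₁ * conj ((θ : ↥𝓝 → ℂ) h₁)) hθ]
    · rw [hs, s_of_not _ hEx, s_of_not _ hEx]
      simp
  have hsum_ss : ∑ ψ : Cfsg.IrrCharacter G, s ψ h₁ * conj (s ψ h₁) = (p : ℂ) - e := by
    rw [Finset.sum_congr rfl (fun ψ _ => hss ψ), sum_F hF1 hF2 hF4
      (fun θ : Cfsg.IrrCharacter ↥𝓝 => (θ : ↥𝓝 → ℂ) h₁ * conj ((θ : ↥𝓝 → ℂ) h₁))]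
    exact hN3
  refine ⟨εz, cz ψ₀, deg ψ₀, E, cz, hεz, ?_, hconst, ?_, ?_, ?_, ?_⟩
  · rw [hEcard, hrelcard]
  · have h := P2 ψ₀
    have hu1 : u ψ₀ = 1 := by rw [hu, if_pos ⟨θ₀, hψ₀⟩]
    rw [hu1] at h
    exact ⟨bz ψ₀, by rw [h]; push_cast; ring⟩
  · intro ψ hψ
    have hnE : ¬ ∃ θ, F θ ψ := fun h => hψ ((hE ψ).mpr h)
    constructor
    · have h := P2 ψ
      have hu0 : u ψ = 0 := by rw [hu, if_neg hnE]
      rw [hu0] at h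
      exact ⟨bz ψ, by rw [h]; push_cast; ring⟩
    · intro k hk hkne
      have hkN : k ∈ 𝓝 := hlt.le hk
      have h := P1 ψ ⟨k, hkN⟩ (by rw [Subgroup.mem_subgroupOf]; exact hk)
        (by intro h; exact hkne (congrArg Subtype.val h))
      rw [hs, s_of_not _ hnE, mul_zero, add_zero] at h
      exact h
  · have hG3 := Cfsg.Agent.S4757.sum_norm_sq k₁ (G := G)
    rw [hcG] at hG3
    have hterm : ∀ ψ : Cfsg.IrrCharacter G, (ψ : G → ℂ) k₁ * conj ((ψ : G → ℂ) k₁)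
        = ((cz ψ : ℂ)) ^ 2 + εc * (cz ψ₀ : ℂ) * (s ψ h₁ + conj (s ψ h₁))
          + s ψ h₁ * conj (s ψ h₁) := by
      intro ψ
      rw [hψk, map_add, map_mul, hεconj, map_intCast]
      have h1 := hcs ψ
      have h2 : (cz ψ : ℂ) * conj (s ψ h₁) = (cz ψ₀ : ℂ) * conj (s ψ h₁) := by
        have := congrArg conj h1
        rw [map_mul, map_mul, map_intCast, map_intCast] at this
        exact this
      linear_combination εc * h1 + εc * h2 + (s ψ h₁ * conj (s ψ h₁)) * hεsq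
    rw [Finset.sum_congr rfl (fun ψ _ => hterm ψ), Finset.sum_add_distrib,
      Finset.sum_add_distrib, ← Finset.mul_sum, Finset.sum_add_distrib, hsum_s, hsum_sc,
      hsum_ss] at hG3
    have h4 : ((∑ ψ : Cfsg.IrrCharacter G, (cz ψ) ^ 2 : ℤ) : ℂ)
        = ((e + 2 * εz * cz ψ₀ : ℤ) : ℂ) := by
      push_cast
      rw [hεzc]
      linear_combination hG3
    exact_mod_cast h4
  · have hG4 := Cfsg.Agent.S4757.sum_deg_mul k₁ hk₁ne (G := G)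
    have hterm : ∀ ψ : Cfsg.IrrCharacter G, (ψ : G → ℂ) 1 * (ψ : G → ℂ) k₁
        = (cz ψ : ℂ) * (deg ψ : ℂ) + εc * (deg ψ₀ : ℂ) * s ψ h₁ := by
      intro ψ
      rw [hψk, deg_spec]
      linear_combination εc * hds ψ
    rw [Finset.sum_congr rfl (fun ψ _ => hterm ψ), Finset.sum_add_distrib, ← Finset.mul_sum,
      hsum_s] at hG4
    have h4 : ((∑ ψ : Cfsg.IrrCharacter G, cz ψ * (deg ψ : ℤ) : ℤ) : ℂ)
        = ((εz * (deg ψ₀ : ℕ) : ℤ) : ℂ) := by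
      push_cast
      rw [hεzc]
      linear_combination hG4
    exact_mod_cast h4

end

end Cfsg.Agent.Lib.Helper26.ExcChar
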