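import Cfsg.Agent.Lib.Helper26.ExcChar2
import Cfsg.Agent.Lib.Helper8.SimpleAux

set_option autoImplicit false

/-!
Auxiliary lemmas for applying `exc_data` to a Sylow subgroup of prime order in a simple group.
-/

namespace Cfsg.Agent.Lib.Helper26.ExcChar

open Cfsg.Agent.Lib.Helper2 Cfsg.Agent.Lib.Lead.TIFN
open scoped commutatorElement

section sylow

variable {G : Type*} [Group G] [Finite G]

/-- A Sylow subgroup `P` of prime order with `|N(P) : P|` prime and `N(P) ≰ C(P)` is a
self-centralizing T.I. subgroup. -/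
theorem sylow_prime_data {p : ℕ} [Fact p.Prime] (P : Sylow p G)
    (hP : Nat.card (P : Subgroup G) = p) (e : ℕ) (he : e.Prime)
    (hN : Nat.card (Subgroup.normalizer ((P : Subgroup G) : Set G)) = p * e)
    (hnc : ¬ (Subgroup.normalizer ((P : Subgroup G) : Set G)
      ≤ Subgroup.centralizer ((P : Subgroup G) : Set G))) :
    (∀ g : G, g ∉ Subgroup.normalizer ((P : Subgroup G) : Set G) →
      ∀ k ∈ (P : Subgroup G), g * k * g⁻¹ ∈ (P : Subgroup G) → k = 1) ∧
    ((P : Subgroup G) < Subgroup.normalizer ((P : Subgroup G) : Set G)) ∧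
    (∀ k ∈ (P : Subgroup G), k ≠ 1 → Subgroup.centralizer ({k} : Set G) ≤ (P : Subgroup G)) ∧
    (∀ a ∈ (P : Subgroup G), ∀ b ∈ (P : Subgroup G), a * b = b * a) ∧
    ((P : Subgroup G).subgroupOf (Subgroup.normalizer ((P : Subgroup G) : Set G))).index = e := by
  have hp : p.Prime := Fact.out
  have hcyc : IsCyclic ↥(P : Subgroup G) := isCyclic_of_prime_card hP
  have hab : ∀ a ∈ (P : Subgroup G), ∀ b ∈ (P : Subgroup G), a * b = b * a := by
    intro a ha b hb
    have := (IsCyclic.commGroup : CommGroup ↥(P : Subgroup G)).mul_comm ⟨a, ha⟩ ⟨b, hb⟩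
    exact congrArg Subtype.val this
  have hgen : ∀ k ∈ (P : Subgroup G), k ≠ 1 → Subgroup.zpowers k = (P : Subgroup G) := by
    intro k hk hk1
    apply Subgroup.eq_of_le_of_card_ge (Subgroup.zpowers_le.mpr hk)
    rw [Nat.card_zpowers, hP]
    have hd : orderOf k ∣ p := hP ▸ Subgroup.orderOf_dvd_natCard _ hk
    rcases (Nat.dvd_prime hp).mp hd with h | h
    · exact absurd (orderOf_eq_one_iff.mp h) hk1
    · exact h.ge
  have hPC : (P : Subgroup G) ≤ Subgroup.centralizer ((P : Subgroup G) : Set G) := by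
    intro a ha
    rw [Subgroup.mem_centralizer_iff]
    intro b hb
    exact hab b hb a ha
  have hCN : Subgroup.centralizer ((P : Subgroup G) : Set G)
      ≤ Subgroup.normalizer ((P : Subgroup G) : Set G) := Subgroup.centralizer_le_normalizer _
  have hCP : Subgroup.centralizer ((P : Subgroup G) : Set G) = (P : Subgroup G) := by
    symm
    apply Subgroup.eq_of_le_of_card_ge hPC
    have h1 : Nat.card (Subgroup.centralizer ((P : Subgroup G) : Set G)) ∣ p * e := by
      rw [← hN]
      exact Subgroup.card_dvd_of_le hCN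
    have h2 : p ∣ Nat.card (Subgroup.centralizer ((P : Subgroup G) : Set G)) := by
      have := Subgroup.card_dvd_of_le hPC
      rw [hP] at this
      exact this
    obtain ⟨j, hj⟩ := h2
    rw [hj] at h1
    have h3 : j ∣ e := (Nat.mul_dvd_mul_iff_left hp.pos).mp h1
    rcases (Nat.dvd_prime he).mp h3 with h | h
    · rw [hj, h, mul_one, hP]
    · exfalso
      apply hnc
      have : Subgroup.centralizer ((P : Subgroup G) : Set G)
          = Subgroup.normalizer ((P : Subgroup G) : Set G) := by
        apply Subgroup.eq_of_le_of_card_ge hCN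
        rw [hN, hj, h]
      rw [this]
  have hlt : (P : Subgroup G) < Subgroup.normalizer ((P : Subgroup G) : Set G) := by
    refine lt_of_le_of_ne Subgroup.le_normalizer ?_
    intro h
    have h1 : Nat.card (P : Subgroup G)
        = Nat.card (Subgroup.normalizer ((P : Subgroup G) : Set G)) := by
      rw [← h]
    rw [hP, hN] at h1
    have := he.two_le
    have hp1 := hp.pos
    nlinarith
  refine ⟨?_, hlt, ?_, hab, ?_⟩
  · intro g hg k hk hgk
    by_contra hk1
    apply hg
    have hk' : g * k * g⁻¹ ≠ 1 := by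
      intro h
      apply hk1
      have : k = g⁻¹ * (g * k * g⁻¹) * g := by group
      rw [this, h]
      group
    rw [Subgroup.mem_normalizer_iff]
    intro h
    constructor
    · intro hh
      rw [← hgen k hk hk1] at hh
      obtain ⟨i, rfl⟩ := Subgroup.mem_zpowers_iff.mp hh
      have : g * k ^ i * g⁻¹ = (g * k * g⁻¹) ^ i := by
        rw [conj_zpow]
      rw [this]
      exact Subgroup.zpow_mem _ hgk i
    · intro hh
      rw [← hgen _ hgk hk'] at hh
      obtain ⟨i, hi⟩ := Subgroup.mem_zpowers_iff.mp hh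
      have : h = k ^ i := by
        have e1 : g * h * g⁻¹ = g * k ^ i * g⁻¹ := by
          rw [← hi, conj_zpow]
        have e2 : g⁻¹ * (g * h * g⁻¹) * g = g⁻¹ * (g * k ^ i * g⁻¹) * g := by rw [e1]
        have l1 : g⁻¹ * (g * h * g⁻¹) * g = h := by group
        have l2 : g⁻¹ * (g * k ^ i * g⁻¹) * g = k ^ i := by group
        rw [l1, l2] at e2
        exact e2
      rw [this]
      exact Subgroup.zpow_mem _ hk i
  · intro k hk hk1 x hx
    rw [← hCP, Subgroup.mem_centralizer_iff]
    intro y hy
    rw [← hgen k hk hk1] at hy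
    obtain ⟨i, rfl⟩ := Subgroup.mem_zpowers_iff.mp hy
    have h1 : Commute k x := (Subgroup.mem_centralizer_singleton_iff.mp hx).symm
    exact (h1.zpow_left i).eq
  · have h1 := Subgroup.card_mul_index
      ((P : Subgroup G).subgroupOf (Subgroup.normalizer ((P : Subgroup G) : Set G)))
    have h2 : Nat.card ↥((P : Subgroup G).subgroupOf
        (Subgroup.normalizer ((P : Subgroup G) : Set G))) = p :=
      (Nat.card_congr (Subgroup.subgroupOfEquivOfLe hlt.le).toEquiv).trans hP
    rw [h2, hN] at h1
    exact Nat.eq_of_mul_eq_mul_left hp.pos h1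

/-- in a nonabelian simple group the commutator subgroup is everything -/
theorem commutator_eq_top_of_simple [IsSimpleGroup G] (h : ¬ (Nat.card G).Prime) :
    commutator G = ⊤ := by
  rcases (inferInstance : (commutator G).Normal).eq_bot_or_eq_top with hb | ht
  · exfalso
    have hc : ∀ a b : G, a * b = b * a := by
      intro a b
      have h1 : ⁅a, b⁆ ∈ commutator G :=
        Subgroup.commutator_mem_commutator (Subgroup.mem_top a) (Subgroup.mem_top b)
      rw [hb, Subgroup.mem_bot] at h1
      exact commutatorElement_eq_one_iff_mul_comm.mp h1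
    let _ : CommGroup G := { (inferInstance : Group G) with mul_comm := hc }
    exact h IsSimpleGroup.prime_card
  · exact ht

end sylow

section lin

variable {G : Type*} [Group G] [Fintype G]

/-- in a perfect group the only irreducible character of degree one is the principal one -/
theorem deg_one_eq_triv (hperf : commutator G = ⊤) (ψ : Cfsg.IrrCharacter G)
    (h1 : deg ψ = 1) : ψ = Cfsg.Agent.S4757.trivChar G := by
  have h2 : (ψ : G → ℂ) 1 = 1 := by
    rw [deg_spec, h1]
    simp
  obtain ⟨lam, hlam⟩ := hom_of_irr_deg_one ψ.2 h2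
  have h3 := Cfsg.Agent.S4757.hom_eq_one_of_perfect hperf lam
  apply Subtype.ext
  rw [hlam, h3]
  rfl

theorem deg_triv : deg (Cfsg.Agent.S4757.trivChar G) = 1 := by
  have h := deg_spec (Cfsg.Agent.S4757.trivChar G)
  have h2 : ((Cfsg.Agent.S4757.trivChar G : Cfsg.IrrCharacter G) : G → ℂ) 1 = 1 := rfl
  rw [h2] at h
  exact_mod_cast h.symm

end lin

section peel

variable {ι : Type*} [DecidableEq ι]

theorem sum_sq_eq_zero (S : Finset ι) (c : ι → ℤ) (h : ∑ i ∈ S, c i ^ 2 = 0) :
    ∀ i ∈ S, c i = 0 := by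
  intro i hi
  have h1 := (Finset.sum_eq_zero_iff_of_nonneg (fun j _ => sq_nonneg (c j))).mp h i hi
  exact pow_eq_zero_iff (two_ne_zero) |>.mp h1

theorem peel (S : Finset ι) (c : ι → ℤ) (n : ℤ) (hn : 0 < n) (h : ∑ i ∈ S, c i ^ 2 = n) :
    ∃ i ∈ S, c i ≠ 0 ∧ ∑ j ∈ S.erase i, c j ^ 2 = n - c i ^ 2 := by
  have hex : ∃ i ∈ S, c i ≠ 0 := by
    by_contra hcon
    push Not at hcon
    rw [Finset.sum_eq_zero (fun i hi => by rw [hcon i hi]; ring)] at h
    omega
  obtain ⟨i, hi, hci⟩ := hex
  refine ⟨i, hi, hci, ?_⟩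
  have := Finset.sum_erase_add S (fun j => c j ^ 2) hi
  rw [h] at this
  linarith

end peel

end Cfsg.Agent.Lib.Helper26.ExcChar
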