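import Cfsg.Agent.Lib.Helper26.FusionNormal

set_option autoImplicit false
open Cfsg Cfsg.FusionSystem

namespace Cfsg.Agent.Lib.Helper26

variable {Ω : Type*} [Group Ω] {S : Subgroup Ω}

/-- `α` stabilizes the chain `c 0 ≥ c 1 ≥ ⋯ ≥ c m` (intersected with `P`). -/
def Fusion.StabChain {P : Subgroup Ω} (c : ℕ → Subgroup Ω) (m : ℕ) (α : MulAut P) : Prop :=
  ∀ j < m, ∀ x : P, (x : Ω) ∈ c j → (x : Ω)⁻¹ * ((α x : P) : Ω) ∈ c (j + 1)

lemma Fusion.StabChain.mul {P : Subgroup Ω} {c : ℕ → Subgroup Ω} {m : ℕ}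
    (hanti : ∀ j < m, c (j + 1) ≤ c j) {α β : MulAut P}
    (hα : Fusion.StabChain c m α) (hβ : Fusion.StabChain c m β) :
    Fusion.StabChain c m (α * β) := by
  intro j hj x hx
  have h1 := hβ j hj x hx
  have h2 : ((β x : P) : Ω) ∈ c j := by
    have h3 : ((β x : P) : Ω) = (x : Ω) * ((x : Ω)⁻¹ * ((β x : P) : Ω)) := by group
    rw [h3]
    exact (c j).mul_mem hx (hanti j hj h1)
  have h4 := hα j hj (β x) h2
  have h5 : (x : Ω)⁻¹ * (((α * β) x : P) : Ω) =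
      ((x : Ω)⁻¹ * ((β x : P) : Ω)) * (((β x : P) : Ω)⁻¹ * ((α (β x) : P) : Ω)) := by
    rw [MulAut.mul_apply]
    group
  rw [h5]
  exact (c (j + 1)).mul_mem h1 h4

lemma Fusion.StabChain.one {P : Subgroup Ω} (c : ℕ → Subgroup Ω) (m : ℕ) :
    Fusion.StabChain c m (1 : MulAut P) := by
  intro j hj x hx
  simp

lemma Fusion.StabChain.pow {P : Subgroup Ω} {c : ℕ → Subgroup Ω} {m : ℕ}
    (hanti : ∀ j < m, c (j + 1) ≤ c j) {α : MulAut P}
    (hα : Fusion.StabChain c m α) (k : ℕ) : Fusion.StabChain c m (α ^ k) := by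
  induction k with
  | zero => rw [pow_zero]; exact Fusion.StabChain.one c m
  | succ k ih => rw [pow_succ]; exact ih.mul hanti hα

/-- An automorphism stabilizing a chain from `P` down to `1` has order dividing `|P| ^ m`. -/
lemma Fusion.StabChain.pow_card {P : Subgroup Ω} [Finite P] {c : ℕ → Subgroup Ω} {m : ℕ}
    (hanti : ∀ j < m, c (j + 1) ≤ c j) (h0 : P ≤ c 0) (hm : ∀ x : P, (x : Ω) ∈ c m → x = 1)
    {α : MulAut P} (hα : Fusion.StabChain c m α) : α ^ (Nat.card P ^ m) = 1 := by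
  have claim : ∀ j ≤ m, ∀ x : P, (x : Ω) ∈ c (m - j) → (α ^ (Nat.card P ^ j)) x = x := by
    intro j
    induction j with
    | zero =>
      intro _ x hx
      rw [hm x hx]
      simp
    | succ j ih =>
      intro hj x hx
      have ih' := ih (by omega)
      have hβ := hα.pow hanti (Nat.card P ^ j)
      have h3 : α ^ (Nat.card P ^ (j + 1)) = (α ^ (Nat.card P ^ j)) ^ Nat.card P := by
        rw [← pow_mul, pow_succ]
      rw [h3]
      generalize α ^ (Nat.card P ^ j) = β at ih' hβ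
      have hidx : m - (j + 1) + 1 = m - j := by omega
      have hz := hβ (m - (j + 1)) (by omega) x hx
      rw [hidx] at hz
      have hzfix : β (x⁻¹ * β x) = x⁻¹ * β x := ih' _ hz
      have hpow : ∀ k : ℕ, (β ^ k) x = x * (x⁻¹ * β x) ^ k := by
        intro k
        induction k with
        | zero => simp
        | succ k ihk =>
          rw [pow_succ', MulAut.mul_apply, ihk, map_mul, map_pow, hzfix]
          rw [pow_succ', ← mul_assoc, mul_inv_cancel_left]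
      rw [hpow, pow_card_eq_one', mul_one]
  ext x
  have := claim m le_rfl x (by rw [Nat.sub_self]; exact h0 x.2)
  rw [this]
  rfl

/-- Elements of `N_S(P)` stabilizing an `Aut_F(P)`-invariant chain from `P` to `1` lie in `P`,
for `P` radical with `C_S(P) ≤ P`. -/
theorem Fusion.mem_of_radical_of_stabChain [Finite S] {p : ℕ} [Fact p.Prime]
    (hS : IsPGroup p S) (F : FusionSystem S) {P : Subgroup Ω} (hcen : centralizerIn S P ≤ P)
    (hrad : F.IsRadical p P) (c : ℕ → Subgroup Ω) (m : ℕ)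
    (h0 : P ≤ c 0) (hanti : ∀ j < m, c (j + 1) ≤ c j) (hm : ∀ x : P, (x : Ω) ∈ c m → x = 1)
    (hinv : ∀ j ≤ m, ∀ α ∈ F.autGroup P, ∀ x : P, (x : Ω) ∈ c j → ((α x : P) : Ω) ∈ c j)
    (s : Ω) (hsS : s ∈ S) (hsN : s ∈ Subgroup.normalizer (P : Set Ω))
    (h1 : ∀ j < m, ∀ x : P, (x : Ω) ∈ c j → (x : Ω)⁻¹ * (s * x * s⁻¹) ∈ c (j + 1))
    (h2 : ∀ j < m, ∀ x : P, (x : Ω) ∈ c j → (x : Ω)⁻¹ * (s⁻¹ * x * s) ∈ c (j + 1)) :
    s ∈ P := by
  have hP : P ≤ S := hrad.1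
  have hPfin : Finite P := Fusion.finite_of_le hP
  let K : Subgroup (MulAut P) :=
    { carrier := {α | Fusion.StabChain c m α ∧ Fusion.StabChain c m α⁻¹}
      mul_mem' := by
        rintro α β ⟨hα, hα'⟩ ⟨hβ, hβ'⟩
        refine ⟨hα.mul hanti hβ, ?_⟩
        rw [mul_inv_rev]
        exact hβ'.mul hanti hα'
      one_mem' := ⟨Fusion.StabChain.one c m, by rw [inv_one]; exact Fusion.StabChain.one c m⟩
      inv_mem' := by
        rintro α ⟨hα, hα'⟩
        exact ⟨hα', by rw [inv_inv]; exact hα⟩ }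
  have hKmem : ∀ α : MulAut P, α ∈ K ↔ Fusion.StabChain c m α ∧ Fusion.StabChain c m α⁻¹ :=
    fun α => Iff.rfl
  have hconj : ∀ (γ : F.autGroup P) (α : MulAut P), Fusion.StabChain c m α →
      Fusion.StabChain c m ((γ : MulAut P) * α * (γ : MulAut P)⁻¹) := by
    intro γ α hα j hj x hx
    have hy : ((((γ : MulAut P)⁻¹ x : P)) : Ω) ∈ c j :=
      hinv j hj.le _ (Subgroup.inv_mem _ γ.2) x hx
    have h3 := hα j hj _ hy
    have h4 := hinv (j + 1) hj _ γ.2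
      (((γ : MulAut P)⁻¹ x)⁻¹ * α ((γ : MulAut P)⁻¹ x)) h3
    have h5 : (x : Ω)⁻¹ * ((((γ : MulAut P) * α * (γ : MulAut P)⁻¹) x : P) : Ω) =
        (((γ : MulAut P) (((γ : MulAut P)⁻¹ x)⁻¹ * α ((γ : MulAut P)⁻¹ x)) : P) : Ω) := by
      rw [map_mul, map_inv]
      simp [MulAut.mul_apply]
    rw [h5]
    exact h4
  have hKn : (K.subgroupOf (F.autGroup P)).Normal := by
    refine ⟨fun n hn g => ?_⟩
    rw [Subgroup.mem_subgroupOf, hKmem] at hn ⊢
    refine ⟨hconj g _ hn.1, ?_⟩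
    have h6 : (((g * n * g⁻¹ : F.autGroup P) : MulAut P))⁻¹ =
        (g : MulAut P) * (n : MulAut P)⁻¹ * (g : MulAut P)⁻¹ := by
      simp [mul_assoc]
    rw [h6]
    exact hconj g _ hn.2
  have hKp : IsPGroup p (K.subgroupOf (F.autGroup P)) := by
    obtain ⟨a, ha⟩ := (IsPGroup.iff_card.mp (hS.to_le hP) : ∃ n : ℕ, Nat.card P = p ^ n)
    intro g
    refine ⟨a * m, ?_⟩
    have hg : ((g : F.autGroup P) : MulAut P) ∈ K := Subgroup.mem_subgroupOf.mp g.2
    have h7 := ((hKmem _).1 hg).1.pow_card hanti h0 hm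
    rw [ha, ← pow_mul] at h7
    apply Subtype.ext
    apply Subtype.ext
    exact h7
  have hle : K.subgroupOf (F.autGroup P) ≤ pCore p (F.autGroup P) :=
    le_sSup (⟨hKn, hKp⟩ : K.subgroupOf (F.autGroup P) ∈
      {N : Subgroup (F.autGroup P) | N.Normal ∧ IsPGroup p N})
  have hcA : P.normalizerMonoidHom ⟨s, hsN⟩ ∈ F.autGroup P :=
    Fusion.autInducedBy_le_autGroup F hP (Subgroup.subset_closure ⟨s, hsS, fun x => rfl⟩)
  have hcK : (⟨_, hcA⟩ : F.autGroup P) ∈ K.subgroupOf (F.autGroup P) := by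
    rw [Subgroup.mem_subgroupOf, hKmem]
    refine ⟨fun j hj x hx => h1 j hj x hx, fun j hj x hx => ?_⟩
    have h8 : (P.normalizerMonoidHom ⟨s, hsN⟩)⁻¹ = P.normalizerMonoidHom (⟨s, hsN⟩⁻¹) :=
      (map_inv _ _).symm
    have h9 : ((((P.normalizerMonoidHom ⟨s, hsN⟩)⁻¹ x : P)) : Ω) = s⁻¹ * x * s := by
      rw [h8]
      show s⁻¹ * (x : Ω) * s⁻¹⁻¹ = _
      rw [inv_inv]
    show (x : Ω)⁻¹ * ((((P.normalizerMonoidHom ⟨s, hsN⟩)⁻¹ x : P)) : Ω) ∈ c (j + 1)
    rw [h9]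
    exact h2 j hj x hx
  have hInn : P.normalizerMonoidHom ⟨s, hsN⟩ ∈ Inn P := by
    rw [← hrad.2]
    exact ⟨⟨_, hcA⟩, hle hcK, rfl⟩
  obtain ⟨y, hy⟩ := hInn
  refine Cfsg.Agent.Lib.Helper27.mem_of_conj_eq_inner hP hcen hsS y (fun x => ?_)
  have := congrArg (fun f : MulAut P => ((f x : P) : Ω)) hy
  exact this.symm

/-- In a finite `p`-group `S`: if `Q` is normalized by `S` and every element of `Q` normalizing
`P` lies in `P`, then `Q ≤ P`. -/
lemma Fusion.le_of_normalizer_inf_le [Finite S] {p : ℕ} [Fact p.Prime] (hS : IsPGroup p S)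
    {P Q : Subgroup Ω} (hP : P ≤ S) (hQ : Q ≤ S) (hQn : S ≤ Subgroup.normalizer (Q : Set Ω))
    (h : ∀ g ∈ Q, g ∈ Subgroup.normalizer (P : Set Ω) → g ∈ P) : Q ≤ P := by
  by_contra hQP
  have hR : P ⊔ Q ≤ S := sup_le hP hQ
  have hlt : P < P ⊔ Q := lt_of_le_of_ne le_sup_left (fun h => hQP (h ▸ le_sup_right))
  have hRfin : Finite ↥(P ⊔ Q) := Fusion.finite_of_le hR
  have hRp : IsPGroup p ↥(P ⊔ Q) := hS.to_le hR
  obtain ⟨g, hgR, hgN, hgP⟩ := Cfsg.Agent.Lib.Helper27.exists_mem_normalizer_not_mem hRp hlt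
  have hcoe := Subgroup.coe_mul_of_left_le_normalizer_right P Q (hP.trans hQn)
  have hg' : g ∈ ((P ⊔ Q : Subgroup Ω) : Set Ω) := hgR
  rw [hcoe] at hg'
  obtain ⟨x, hx, q, hq, rfl⟩ := hg'
  have hqN : q ∈ Subgroup.normalizer (P : Set Ω) := by
    have h1 : q = x⁻¹ * (x * q) := by group
    rw [h1]
    exact Subgroup.mul_mem _ (Subgroup.inv_mem _ (Subgroup.le_normalizer hx)) hgN
  exact hgP (P.mul_mem hx (h q hq hqN))

/-- A strongly closed subgroup is normalized by `S`. -/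
lemma Fusion.le_normalizer_of_stronglyClosed (F : FusionSystem S) {Q : Subgroup Ω}
    (hQ : F.StronglyClosed Q) : S ≤ Subgroup.normalizer (Q : Set Ω) := by
  have key : ∀ g ∈ S, ∀ x ∈ Q, g * x * g⁻¹ ∈ Q := by
    intro g hg x hx
    exact hQ.2 Q le_rfl _ (F.conj_mem hQ.1 hg) ⟨x, hx⟩
  intro g hg
  rw [Subgroup.mem_normalizer_iff]
  intro x
  refine ⟨key g hg x, fun hx => ?_⟩
  have := key g⁻¹ (S.inv_mem hg) _ hx
  simpa [mul_assoc] using this

/-- Automorphisms of the system preserve strongly closed subgroups elementwise. -/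
lemma Fusion.aut_mem_of_stronglyClosed (F : FusionSystem S) {T P : Subgroup Ω}
    (hT : F.StronglyClosed T) (hP : P ≤ S) {α : MulAut P} (hα : α ∈ F.autGroup P) (x : P)
    (hx : (x : Ω) ∈ T) : ((α x : P) : Ω) ∈ T := by
  rw [Fusion.mem_autGroup_iff F hP] at hα
  have h1 := Cfsg.Agent.Lib.Helper27.restrict_mem F hα (inf_le_left : P ⊓ T ≤ P)
  exact hT.2 (P ⊓ T) inf_le_right _ h1 ⟨x, ⟨x.2, hx⟩⟩

/-- A characteristic subgroup of a subgroup normal in the system is strongly closed. -/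
lemma Fusion.stronglyClosed_of_characteristic (F : FusionSystem S) {Q : Subgroup Ω}
    (hQ : F.IsNormal Q) (C : Subgroup Q) [hC : C.Characteristic] :
    F.StronglyClosed (C.map Q.subtype) := by
  refine ⟨(Subgroup.map_subtype_le C).trans hQ.1, fun R hR φ hφ x => ?_⟩
  obtain ⟨ψ, hψ, hext, hψQ⟩ := hQ.2 R φ hφ
  have hval : ∀ q : Q, ψ (Subgroup.inclusion le_sup_right q) ∈ Q :=
    fun q => Fusion.map_eq_mp hψQ _ q.2
  let β₀ : Q →* Q := (ψ.comp (Subgroup.inclusion le_sup_right)).codRestrict Q hval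
  have hβ₀ : Function.Bijective β₀ := by
    constructor
    · intro a b hab
      have h1 : ψ (Subgroup.inclusion le_sup_right a) = ψ (Subgroup.inclusion le_sup_right b) :=
        congrArg Subtype.val hab
      have h2 := F.injective_of_mem hψ h1
      exact Subtype.ext (congrArg (fun z : ↥(R ⊔ Q) => (z : Ω)) h2)
    · intro y
      obtain ⟨a, ha, hay⟩ := Fusion.map_eq_mpr hψQ y.2
      refine ⟨⟨a, ha⟩, Subtype.ext ?_⟩
      rw [← hay]
      rfl
  obtain ⟨cc, hcc, hcx⟩ := hR x.2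
  have hfix := hC.fixed (MulEquiv.ofBijective β₀ hβ₀)
  have h3 : cc ∈ C.comap (MulEquiv.ofBijective β₀ hβ₀).toMonoidHom := by
    rw [hfix]
    exact hcc
  have h4 : β₀ cc ∈ C := h3
  refine ⟨β₀ cc, h4, ?_⟩
  rw [← hext]
  show ψ (Subgroup.inclusion le_sup_right cc) = ψ (Subgroup.inclusion le_sup_left x)
  congr 1
  exact Subtype.ext hcx

end Cfsg.Agent.Lib.Helper26
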