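import Cfsg.Agent.Lib.Helper26.FusionGen

set_option autoImplicit false
open Cfsg Cfsg.FusionSystem
open scoped commutatorElement

namespace Cfsg.Agent.Lib.Helper26

variable {Ω : Type*} [Group Ω] {S : Subgroup Ω}

/-- The maps `φ` of `F` with `x⁻¹ φ(x) ∈ T` for all `x`, as a fusion system over `S`
(for `T ≥ [S, S]`). -/
def Fusion.focSys (F : FusionSystem S) (T : Subgroup Ω) (hT : ⁅(S : Subgroup Ω), S⁆ ≤ T) :
    FusionSystem S where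
  Hom P := {φ | φ ∈ F.Hom P ∧ ∀ x : P, (x : Ω)⁻¹ * φ x ∈ T}
  le_of_mem h := F.le_of_mem h.1
  injective_of_mem h := F.injective_of_mem h.1
  conj_mem := by
    intro P g hP hg
    refine ⟨F.conj_mem hP hg, fun x => hT ?_⟩
    show (x : Ω)⁻¹ * (g * x * g⁻¹) ∈ ⁅(S : Subgroup Ω), S⁆
    have h1 : (x : Ω)⁻¹ * (g * x * g⁻¹) = ⁅(x : Ω)⁻¹, g⁆ := by
      rw [commutatorElement_def]
      group
    rw [h1]
    exact Subgroup.commutator_mem_commutator (S.inv_mem (hP x.2)) hg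
  comp_mem := by
    rintro P Q φ ψ ⟨hφ, hφT⟩ ⟨hψ, hψT⟩ h
    refine ⟨F.comp_mem hφ hψ h, fun x => ?_⟩
    have h1 := hφT x
    have h2 := hψT (φ.codRestrict Q h x)
    have h3 : (x : Ω)⁻¹ * (ψ.comp (φ.codRestrict Q h)) x =
        ((x : Ω)⁻¹ * φ x) * ((φ x)⁻¹ * ψ (φ.codRestrict Q h x)) := by
      show (x : Ω)⁻¹ * ψ (φ.codRestrict Q h x) = _
      group
    rw [h3]
    exact T.mul_mem h1 h2
  inv_mem := by
    rintro P φ ⟨hφ, hφT⟩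
    obtain ⟨ψ, hψ, hinv⟩ := F.inv_mem hφ
    refine ⟨ψ, ⟨hψ, ?_⟩, hinv⟩
    rintro ⟨_, x, rfl⟩
    rw [hinv]
    have h1 : (φ x)⁻¹ * (x : Ω) = ((x : Ω)⁻¹ * φ x)⁻¹ := by group
    show (φ x)⁻¹ * (x : Ω) ∈ T
    rw [h1]
    exact T.inv_mem (hφT x)

end Cfsg.Agent.Lib.Helper26
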