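import Mathlib
import Cfsg.Prelude.Def_Characters
import Cfsg.Agent.Lib.Helper2.CharGalois
import Cfsg.Agent.Lib.Helper2.CharOrtho
import Cfsg.Agent.Lib.Helper2.CharBridge
import Cfsg.Agent.Lib.Helper25.Quot
import Cfsg.Agent.S0191

set_option autoImplicit false

/-!
Galois averaging of character values: if a character does not vanish at `g`, then the average
of `|χ(g^m)|^2` over the Galois group of a cyclotomic field is at least one.  As a consequence,
a bound of Knörr type for the number of irreducible characters.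
-/

namespace Cfsg.Agent.Lib.Helper26

open Cfsg Cfsg.Agent.Lib.Helper2 Cfsg.Agent.Lib.Helper25

open Representation Module
open scoped ComplexConjugate

section avg

variable (n : ℕ) [NeZero n]
variable {G : Type*} [Group G] [Finite G]
variable {V : Type*} [AddCommGroup V] [Module ℂ V] [FiniteDimensional ℂ V]

theorem galois_avg_ge (m : (CycK n ≃ₐ[ℚ] CycK n) → ℕ)
    (hmσ : ∀ σ : CycK n ≃ₐ[ℚ] CycK n, σ (cycZeta n) = cycZeta n ^ m σ)
    (ρ : Representation ℂ G V) (g : G) (hn : orderOf g ∣ n) (hne : ρ.character g ≠ 0) :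
    (Fintype.card (CycK n ≃ₐ[ℚ] CycK n) : ℝ)
      ≤ ∑ σ : CycK n ≃ₐ[ℚ] CycK n, ‖ρ.character (g ^ m σ)‖ ^ 2 := by
  classical
  have hΓne : Nonempty (CycK n ≃ₐ[ℚ] CycK n) := ⟨AlgEquiv.refl⟩
  obtain ⟨x, hx1, hx⟩ := char_lift_self n ρ g hn
  have hxint : IsIntegral ℤ x := by
    have h1 := char_isIntegral ρ g
    rw [← hx1] at h1
    exact (isIntegral_algHom_iff ((cycEmb n).restrictScalars ℤ) (cycEmb_injective n)).mp h1
  have hx0 : x ≠ 0 := by
    intro e
    apply hne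
    rw [← hx1, e, map_zero]
  obtain ⟨k, hk⟩ := IsIntegrallyClosed.isIntegral_iff.mp (Algebra.isIntegral_norm ℚ hxint)
  have hk0 : k ≠ 0 := by
    intro e
    rw [e] at hk
    have h2 : Algebra.norm ℚ x = 0 := by
      rw [← hk]
      simp
    exact hx0 (Algebra.norm_eq_zero_iff.mp h2)
  have hprodC := congrArg (cycEmb n) (Algebra.norm_eq_prod_automorphisms ℚ x)
  rw [map_prod] at hprodC
  have hL : cycEmb n (algebraMap ℚ (CycK n) (Algebra.norm ℚ x)) = (k : ℂ) := by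
    rw [AlgHom.commutes, ← hk]
    simp
  rw [hL] at hprodC
  have hprodnorm : (1 : ℝ) ≤ ∏ σ : CycK n ≃ₐ[ℚ] CycK n, ‖ρ.character (g ^ m σ)‖ ^ 2 := by
    have h1 : ∏ σ : CycK n ≃ₐ[ℚ] CycK n, ‖ρ.character (g ^ m σ)‖ = ‖(k : ℂ)‖ := by
      rw [hprodC, norm_prod]
      apply Finset.prod_congr rfl
      intro σ _
      rw [hx σ (m σ) (hmσ σ)]
    rw [Finset.prod_pow, h1, Complex.norm_intCast]
    have h2 : (1 : ℝ) ≤ |(k : ℝ)| := by
      have h3 : (1 : ℤ) ≤ |k| := Int.one_le_abs hk0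
      exact_mod_cast h3
    nlinarith [h2]
  exact Cfsg.Agent.S0191.sum_ge_card_of_prod_ge_one _ (fun σ => by positivity) hprodnorm

end avg

section col

variable {G : Type*} [Group G] [Finite G]

theorem sum_irr_norm_sq [Fintype (IrrCharacter G)] (g : G) :
    ∑ χ : IrrCharacter G, ‖(χ : G → ℂ) g‖ ^ 2
      = (Nat.card (Subgroup.centralizer ({g} : Set G)) : ℝ) := by
  classical
  have := Fintype.ofFinite G
  have h1 := column_orthogonality g g
  rw [colFun_of_isConj (IsConj.refl g)] at h1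
  have h2 : ∀ χ : IrrCharacter G, (χ : G → ℂ) g * conj ((χ : G → ℂ) g)
      = ((‖(χ : G → ℂ) g‖ ^ 2 : ℝ) : ℂ) := by
    intro χ
    rw [Complex.mul_conj, Complex.normSq_eq_norm_sq]
  simp only [h2] at h1
  rw [← Complex.ofReal_sum] at h1
  have h3 : ((Nat.card (Subgroup.centralizer ({g} : Set G)) : ℕ) : ℂ)
      = (((Nat.card (Subgroup.centralizer ({g} : Set G)) : ℕ) : ℝ) : ℂ) := by
    push_cast
    rfl
  rw [h3] at h1
  exact Complex.ofReal_injective h1

theorem centralizer_pow_of_coprime (g : G) (m : ℕ) (hm : m.Coprime (orderOf g)) :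
    Subgroup.centralizer ({g ^ m} : Set G) = Subgroup.centralizer ({g} : Set G) := by
  obtain ⟨k, hk⟩ := exists_pow_eq_self_of_coprime hm
  ext h
  rw [Subgroup.mem_centralizer_iff, Subgroup.mem_centralizer_iff]
  constructor
  · intro hh x hx
    rw [Set.mem_singleton_iff] at hx
    rw [hx]
    have h1 : g ^ m * h = h * g ^ m := hh _ rfl
    have h2 : Commute (g ^ m) h := h1
    have h3 : Commute ((g ^ m) ^ k) h := h2.pow_left k
    rw [hk] at h3
    exact h3
  · intro hh x hx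
    rw [Set.mem_singleton_iff] at hx
    rw [hx]
    have h1 : g * h = h * g := hh _ rfl
    have h2 : Commute g h := h1
    exact h2.pow_left m

/-- A bound of Knörr type: if no irreducible character vanishes at `v`, and `v` lies in the
normal subgroup `N`, then `k(X) + |X/N| ≤ |C_X(v)| + k(X/N)`. -/
theorem card_irr_add_le (v : G) (hv : ∀ χ : IrrCharacter G, (χ : G → ℂ) v ≠ 0)
    (N : Subgroup G) [N.Normal] (hvN : v ∈ N) :
    Nat.card (IrrCharacter G) + Nat.card (G ⧸ N)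
      ≤ Nat.card (Subgroup.centralizer ({v} : Set G)) + Nat.card (IrrCharacter (G ⧸ N)) := by
  classical
  have := Fintype.ofFinite G
  have := Fintype.ofFinite (IrrCharacter G)
  have := Fintype.ofFinite (IrrCharacter (G ⧸ N))
  have hnz : NeZero (orderOf v) := ⟨(orderOf_pos v).ne'⟩
  have hm : ∀ σ : CycK (orderOf v) ≃ₐ[ℚ] CycK (orderOf v),
      ∃ m : ℕ, m.Coprime (orderOf v) ∧ σ (cycZeta (orderOf v)) = cycZeta (orderOf v) ^ m :=
    aut_zeta (orderOf v)
  choose m hmcop hmσ using hm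
  set c : ℝ := (Fintype.card (CycK (orderOf v) ≃ₐ[ℚ] CycK (orderOf v)) : ℝ) with hc
  have hΓne : Nonempty (CycK (orderOf v) ≃ₐ[ℚ] CycK (orderOf v)) := ⟨AlgEquiv.refl⟩
  have hcpos : 0 < c := by
    rw [hc]
    exact_mod_cast Fintype.card_pos
  -- the double sum
  have htotal : ∑ χ : IrrCharacter G, ∑ σ : CycK (orderOf v) ≃ₐ[ℚ] CycK (orderOf v),
      ‖(χ : G → ℂ) (v ^ m σ)‖ ^ 2
      = c * (Nat.card (Subgroup.centralizer ({v} : Set G)) : ℝ) := by
    rw [Finset.sum_comm]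
    have hinner : ∀ σ : CycK (orderOf v) ≃ₐ[ℚ] CycK (orderOf v),
        ∑ χ : IrrCharacter G, ‖(χ : G → ℂ) (v ^ m σ)‖ ^ 2
          = (Nat.card (Subgroup.centralizer ({v} : Set G)) : ℝ) := by
      intro σ
      rw [sum_irr_norm_sq, centralizer_pow_of_coprime v (m σ) (hmcop σ)]
    simp only [hinner]
    rw [Finset.sum_const, Finset.card_univ, nsmul_eq_mul]
  -- lower bound for each character
  have hlow : ∀ χ : IrrCharacter G,
      c * (if (∀ n ∈ N, (χ : G → ℂ) n = (χ : G → ℂ) 1) then ‖(χ : G → ℂ) 1‖ ^ 2 else 1)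
        ≤ ∑ σ : CycK (orderOf v) ≃ₐ[ℚ] CycK (orderOf v), ‖(χ : G → ℂ) (v ^ m σ)‖ ^ 2 := by
    intro χ
    by_cases hS : ∀ n ∈ N, (χ : G → ℂ) n = (χ : G → ℂ) 1
    · rw [if_pos hS]
      have h1 : ∀ σ : CycK (orderOf v) ≃ₐ[ℚ] CycK (orderOf v),
          ‖(χ : G → ℂ) (v ^ m σ)‖ ^ 2 = ‖(χ : G → ℂ) 1‖ ^ 2 := by
        intro σ
        rw [hS _ (N.pow_mem hvN _)]
      simp only [h1]
      rw [Finset.sum_const, Finset.card_univ, nsmul_eq_mul]
    · rw [if_neg hS, mul_one]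
      obtain ⟨k, ρ, hρ, hχ⟩ := χ.2
      have h1 := galois_avg_ge (orderOf v) m hmσ ρ v dvd_rfl (by rw [hχ]; exact hv χ)
      rw [hχ] at h1
      exact h1
  have hsum : c * ∑ χ : IrrCharacter G,
      (if (∀ n ∈ N, (χ : G → ℂ) n = (χ : G → ℂ) 1) then ‖(χ : G → ℂ) 1‖ ^ 2 else 1)
      ≤ c * (Nat.card (Subgroup.centralizer ({v} : Set G)) : ℝ) := by
    rw [← htotal, Finset.mul_sum]
    exact Finset.sum_le_sum (fun χ _ => hlow χ)
  have hsum' := le_of_mul_le_mul_left hsum hcpos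
  -- evaluate the sum
  have heval : ∑ χ : IrrCharacter G,
      (if (∀ n ∈ N, (χ : G → ℂ) n = (χ : G → ℂ) 1) then ‖(χ : G → ℂ) 1‖ ^ 2 else (1 : ℝ))
      = (Nat.card (G ⧸ N) : ℝ) - (Nat.card (IrrCharacter (G ⧸ N)) : ℝ)
        + (Nat.card (IrrCharacter G) : ℝ) := by
    have h1 : ∀ χ : IrrCharacter G,
        (if (∀ n ∈ N, (χ : G → ℂ) n = (χ : G → ℂ) 1) then ‖(χ : G → ℂ) 1‖ ^ 2 else (1 : ℝ))
        = (if (∀ n ∈ N, (χ : G → ℂ) n = (χ : G → ℂ) 1) then ‖(χ : G → ℂ) 1‖ ^ 2 - 1 else 0)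
          + 1 := by
      intro χ
      split_ifs <;> ring
    simp only [h1]
    rw [Finset.sum_add_distrib, Finset.sum_const, Finset.card_univ, nsmul_eq_mul, mul_one,
      ← Finset.sum_filter]
    rw [Finset.sum_subtype (Finset.univ.filter
      (fun χ : IrrCharacter G => ∀ n ∈ N, (χ : G → ℂ) n = (χ : G → ℂ) 1))
      (p := fun χ : IrrCharacter G => ∀ n ∈ N, (χ : G → ℂ) n = (χ : G → ℂ) 1)
      (fun χ => by simp)
      (fun χ : IrrCharacter G => ‖(χ : G → ℂ) 1‖ ^ 2 - 1)]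
    have h2 : ∑ χ : {χ : IrrCharacter G // ∀ n ∈ N, (χ : G → ℂ) n = (χ : G → ℂ) 1},
        (‖((χ : IrrCharacter G) : G → ℂ) 1‖ ^ 2 - 1)
        = ∑ ψ : IrrCharacter (G ⧸ N), (‖(ψ : G ⧸ N → ℂ) 1‖ ^ 2 - 1) := by
      rw [← (irrQuotEquiv N).sum_comp]
      apply Finset.sum_congr rfl
      intro ψ _
      rw [irrQuotEquiv_apply]
      rfl
    rw [h2, Finset.sum_sub_distrib, sum_irr_norm_sq, Finset.sum_const, Finset.card_univ,
      nsmul_eq_mul, mul_one]
    have h3 : Subgroup.centralizer ({(1 : G ⧸ N)} : Set (G ⧸ N)) = ⊤ := by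
      ext h
      simp [Subgroup.mem_centralizer_iff]
    rw [h3, Subgroup.card_top, Nat.card_eq_fintype_card (α := IrrCharacter (G ⧸ N)),
      Nat.card_eq_fintype_card (α := IrrCharacter G)]
  rw [heval] at hsum'
  have h5 : ((Nat.card (IrrCharacter G) + Nat.card (G ⧸ N) : ℕ) : ℝ)
      ≤ ((Nat.card (Subgroup.centralizer ({v} : Set G))
          + Nat.card (IrrCharacter (G ⧸ N)) : ℕ) : ℝ) := by
    push_cast
    linarith
  exact_mod_cast h5

end col

end Cfsg.Agent.Lib.Helper26
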