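import Mathlib
import Cfsg.Agent.Lib.Helper25.Centric
import Cfsg.Agent.Lib.Helper25.BrauerPair15
import Cfsg.Agent.Lib.Helper8.DefectCentral
import Cfsg.Agent.Lib.Helper8.DefectNum
import Cfsg.Agent.Lib.Helper2.CharCenter
import Cfsg.Agent.Lib.Helper26.QuotBlock
import Cfsg.Agent.S0969
import Cfsg.Agent.S4437
import Cfsg.Agent.S4657

set_option autoImplicit false

/-!
Maximal Brauer pairs: a pair `(Q, e)` is a maximal pair of a block exactly when `Z(Q)` is a
defect group of `e` and the stabilizer of `e` in `N(Q)` has index prime to `p` over `Q C(Q)`.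
-/

namespace Cfsg.Agent.Lib.Helper26

open Cfsg Cfsg.Agent.Lib.Helper2 Cfsg.Agent.Lib.Helper25 Cfsg.Agent.Lib.Helper8

section maxpair

variable {G : Type*} [Group G] [Fintype G] {p : ℕ} {M : Ideal AlgInt}

/-- a normal step from a pair `(Q, e)` with `|Z(Q)| = p ^ d(e)` whose `p`-elements of the
stabilizer lie in `Q C(Q)` does not move the subgroup -/
theorem normal_step_eq [Fact p.Prime] (hM : IsPModular p M) (Q : Subgroup G)
    (e : Set (IrrCharacter (Subgroup.centralizer (Q : Set G))))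
    (hcard : Nat.card ↥(Q ⊓ Subgroup.centralizer (Q : Set G)) = p ^ blockDefect p e)
    (hstab : ∀ g : G, g ∈ Subgroup.normalizer (Q : Set G) →
      StabilizesBlock (Subgroup.centralizer (Q : Set G)) e g → (∃ k : ℕ, orderOf g = p ^ k) →
      g ∈ Q ⊔ Subgroup.centralizer (Q : Set G))
    (Q₁ : Subgroup G) (e₁ : Set (IrrCharacter (Subgroup.centralizer (Q₁ : Set G))))
    (hn : IsNormalSubpair p M Q e Q₁ e₁) : Q₁ = Q := by
  classical
  have hpr := isPrime_of_isPModular hM
  have hp : p.Prime := Fact.out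
  have : Fintype (Subgroup.centralizer (Q : Set G)) := Fintype.ofFinite _
  have : Fintype (IrrCharacter (Subgroup.centralizer (Q : Set G))) := Fintype.ofFinite _
  obtain ⟨⟨hQp, he⟩, ⟨hQ₁p, he₁⟩, hQQ₁, hQ₁N, hstab₁, hom⟩ := hn
  -- `Q₁ ≤ Q C(Q)`
  have hQ₁le : Q₁ ≤ Q ⊔ Subgroup.centralizer (Q : Set G) := by
    intro y hy
    apply hstab y (hQ₁N hy) (hstab₁ y hy)
    obtain ⟨k, hk⟩ := (IsPGroup.iff_orderOf.mp hQ₁p) ⟨y, hy⟩
    exact ⟨k, by rw [← hk, ← Subgroup.orderOf_coe]⟩
  -- an element of `C(Q₁)` at which the idempotent of `e` is a unit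
  have hCC : Subgroup.centralizer (Q₁ : Set G) ≤ Subgroup.centralizer (Q : Set G) :=
    Subgroup.centralizer_le (fun x hx => hQQ₁ hx)
  obtain ⟨x₀, hx₀, hx₀J⟩ : ∃ x₀ ∈ Subgroup.centralizer (Q₁ : Set G), ¬ MemLocalIdeal M
      (subgroupBlockCoeff (Subgroup.centralizer (Q : Set G)) e x₀) := by
    by_contra hno
    push Not at hno
    obtain ⟨ξ, hξ⟩ := isPBlock_nonempty hM he₁
    have hC : ConjInv (Subgroup.centralizer (Q₁ : Set G))
        (subgroupBlockCoeff (Subgroup.centralizer (Q : Set G)) e) := by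
      rw [subgroupBlockCoeff_eq]
      exact (conjInv_extendByZero _ (blockCoeff_isClassFunction e)).mono hCC
    have h1 := brauerOmega_memLocalIdeal hM Q₁ _ hno hC ξ
    have h2 := hom ξ hξ
    have h3 := MemLocalIdeal.sub M h1 h2
    rw [sub_sub_cancel] at h3
    exact not_memLocalIdeal_one M h3
  have hx₀C : x₀ ∈ Subgroup.centralizer (Q : Set G) := hCC hx₀
  have hnJ : ¬ MemLocalIdeal M (blockCoeff e ⟨x₀, hx₀C⟩) := by
    rw [subgroupBlockCoeff_eq, extendByZero_of_mem _ _ hx₀C] at hx₀J
    exact hx₀J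
  have hle1 : (Nat.card (Subgroup.centralizer
      ({(⟨x₀, hx₀C⟩ : ↥(Subgroup.centralizer (Q : Set G)))} : Set _))).factorization p
      ≤ blockDefect p e := by
    by_contra hlt
    push Not at hlt
    exact hnJ (memLocalIdeal_blockCoeff_of_defect_lt hM e (blockClosed_of_isPBlock M he) _ hlt)
  -- the part of `Q₁` in `C(Q)` centralizes `x₀`
  have hTp : IsPGroup p ((Q₁ ⊓ Subgroup.centralizer (Q : Set G)).subgroupOf
      (Subgroup.centralizer (Q : Set G))) := (hQ₁p.to_le inf_le_left).comap_subtype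
  have hTle : (Q₁ ⊓ Subgroup.centralizer (Q : Set G)).subgroupOf
      (Subgroup.centralizer (Q : Set G))
      ≤ Subgroup.centralizer
        ({(⟨x₀, hx₀C⟩ : ↥(Subgroup.centralizer (Q : Set G)))} : Set _) := by
    intro t ht
    rw [Subgroup.mem_centralizer_iff]
    intro y hy
    rw [Set.mem_singleton_iff] at hy
    subst hy
    apply Subtype.ext
    have h1 : (t : G) ∈ Q₁ := (Subgroup.mem_subgroupOf.mp ht).1
    exact (Subgroup.mem_centralizer_iff.mp hx₀ (t : G) h1).symm
  obtain ⟨a, ha⟩ := hTp.exists_card_eq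
  have hcard0 : Nat.card (Subgroup.centralizer
      ({(⟨x₀, hx₀C⟩ : ↥(Subgroup.centralizer (Q : Set G)))} : Set _)) ≠ 0 :=
    Nat.card_pos.ne'
  have hale : a ≤ blockDefect p e := by
    have h1 := Subgroup.card_dvd_of_le hTle
    rw [ha] at h1
    exact ((hp.pow_dvd_iff_le_factorization hcard0).mp h1).trans hle1
  have hcard₁ : Nat.card ↥(Q₁ ⊓ Subgroup.centralizer (Q : Set G)) ≤
      Nat.card ↥(Q ⊓ Subgroup.centralizer (Q : Set G)) := by
    rw [hcard, ← card_subgroupOf_eq _ _ inf_le_right, ha]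
    exact Nat.pow_le_pow_right hp.pos hale
  have heq : Q ⊓ Subgroup.centralizer (Q : Set G) = Q₁ ⊓ Subgroup.centralizer (Q : Set G) :=
    Subgroup.eq_of_le_of_card_ge (inf_le_inf_right _ hQQ₁) hcard₁
  apply le_antisymm _ hQQ₁
  intro y hy
  have hy' : y ∈ ((Q ⊔ Subgroup.centralizer (Q : Set G) : Subgroup G) : Set G) := hQ₁le hy
  rw [Subgroup.coe_mul_of_left_le_normalizer_right Q _
    (Subgroup.le_normalizer.trans (normalizer_le_normalizer_centralizer Q))] at hy'
  obtain ⟨q, hq, c, hc, rfl⟩ := Set.mem_mul.mp hy'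
  have hc₁ : c ∈ Q₁ := by
    have := Q₁.mul_mem (Q₁.inv_mem (hQQ₁ hq)) hy
    rwa [inv_mul_cancel_left] at this
  have hcQ : c ∈ Q ⊓ Subgroup.centralizer (Q : Set G) := by
    rw [heq]
    exact ⟨hc₁, hc⟩
  exact Q.mul_mem hq hcQ.1

omit [Fintype G] in
/-- a chain starting at a pair all of whose normal steps are trivial stays at the pair -/
theorem chain_eq_of_steps [Finite G] (hM : IsPModular p M) (Q : Subgroup G)
    (e : Set (IrrCharacter (Subgroup.centralizer (Q : Set G))))
    (hstep : ∀ (Q₁ : Subgroup G) (e₁ : Set (IrrCharacter (Subgroup.centralizer (Q₁ : Set G)))),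
      IsNormalSubpair p M Q e Q₁ e₁ → Q₁ = Q)
    (c : BrauerPairIdx G) (h : Relation.ReflTransGen (NormalSubpairRel p M) ⟨Q, e⟩ c) :
    c = ⟨Q, e⟩ := by
  classical
  have : Fintype G := Fintype.ofFinite G
  induction h with
  | refl => rfl
  | @tail b c _ hbc ih =>
    subst ih
    obtain ⟨Q₁, e₁⟩ := c
    have hbc' : IsNormalSubpair p M Q e Q₁ e₁ := hbc
    have hQ := hstep Q₁ e₁ hbc'
    subst hQ
    have h2 := normal_subpair_same hM hbc'
    subst h2
    rfl

/-- **a pair `(Q, e)` such that `e` contains a character of defect zero modulo `Z(Q)` and whose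
stabilizer has no `p`-elements outside `Q C(Q)` is a maximal pair of a block** -/
theorem maximal_of_data [Fact p.Prime] (hM : IsPModular p M) (Q : Subgroup G)
    (e : Set (IrrCharacter (Subgroup.centralizer (Q : Set G)))) (he : IsBrauerPair p M Q e)
    (θ : IrrCharacter (Subgroup.centralizer (Q : Set G))) (hθ : θ ∈ e)
    (hdeg : (charDegree (θ : Subgroup.centralizer (Q : Set G) → ℂ)).factorization p
      + (Nat.card ↥(Q ⊓ Subgroup.centralizer (Q : Set G))).factorization p
      = (Nat.card (Subgroup.centralizer (Q : Set G))).factorization p)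
    (hstab : ∀ g : G, g ∈ Subgroup.normalizer (Q : Set G) →
      StabilizesBlock (Subgroup.centralizer (Q : Set G)) e g → (∃ k : ℕ, orderOf g = p ^ k) →
      g ∈ Q ⊔ Subgroup.centralizer (Q : Set G)) :
    ∃ B : Set (IrrCharacter G), IsMaximalBrauerPair p M B Q e := by
  classical
  have hpr := isPrime_of_isPModular hM
  have hp : p.Prime := Fact.out
  have : Fintype (Subgroup.centralizer (Q : Set G)) := Fintype.ofFinite _
  have hDp : IsPGroup p ((Q ⊓ Subgroup.centralizer (Q : Set G)).subgroupOf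
      (Subgroup.centralizer (Q : Set G))) := (he.1.to_le inf_le_left).comap_subtype
  have hDZ : (Q ⊓ Subgroup.centralizer (Q : Set G)).subgroupOf
      (Subgroup.centralizer (Q : Set G)) ≤ Subgroup.center _ := by
    intro z hz
    rw [Subgroup.mem_center_iff]
    intro c
    apply Subtype.ext
    have h1 : (z : G) ∈ Q := (Subgroup.mem_subgroupOf.mp hz).1
    exact (Subgroup.mem_centralizer_iff.mp c.2 (z : G) h1).symm
  have hcardD : Nat.card ((Q ⊓ Subgroup.centralizer (Q : Set G)).subgroupOf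
      (Subgroup.centralizer (Q : Set G))) = Nat.card ↥(Q ⊓ Subgroup.centralizer (Q : Set G)) :=
    card_subgroupOf_eq _ _ inf_le_right
  have hidx := Subgroup.card_mul_index ((Q ⊓ Subgroup.centralizer (Q : Set G)).subgroupOf
      (Subgroup.centralizer (Q : Set G)))
  have hdeg' : (charDegree (θ : Subgroup.centralizer (Q : Set G) → ℂ)).factorization p
      = ((Q ⊓ Subgroup.centralizer (Q : Set G)).subgroupOf
      (Subgroup.centralizer (Q : Set G))).index.factorization p := by
    have h1 : (Nat.card ((Q ⊓ Subgroup.centralizer (Q : Set G)).subgroupOf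
      (Subgroup.centralizer (Q : Set G))) * ((Q ⊓ Subgroup.centralizer (Q : Set G)).subgroupOf
      (Subgroup.centralizer (Q : Set G))).index).factorization p
      = (Nat.card (Subgroup.centralizer (Q : Set G))).factorization p := by rw [hidx]
    rw [Nat.factorization_mul Nat.card_pos.ne' (Subgroup.index_ne_zero_of_finite),
      Finsupp.add_apply, hcardD] at h1
    omega
  obtain ⟨hdef, -⟩ := Cfsg.Agent.S0969.result p M hM _ hDp hDZ θ hdeg'
  have hbe : e = blockOf M (θ : Subgroup.centralizer (Q : Set G) → ℂ) :=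
    isPBlock_eq_of_mem hM he.2 ⟨θ, rfl⟩ hθ (sameBlock_refl M _)
  rw [← hbe] at hdef
  have hcard : Nat.card ↥(Q ⊓ Subgroup.centralizer (Q : Set G)) = p ^ blockDefect p e := by
    rw [← hcardD]
    exact card_of_isDefectGroup hM e he.2 _ hdef
  obtain ⟨B, hB, -⟩ := Cfsg.Agent.S4657.result p M hM Q e he
  refine ⟨B, hB, fun R g _ hle => ?_⟩
  have h3 := chain_eq_of_steps hM Q e (normal_step_eq hM Q e hcard hstab) ⟨R, g⟩ hle
  exact congrArg Sigma.fst h3

/-- the centre of the subgroup of a maximal pair has the order of the defect groups of the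
block of the centralizer -/
theorem card_center_of_maximal [Fact p.Prime] (hM : IsPModular p M) {Q : Subgroup G}
    {e : Set (IrrCharacter (Subgroup.centralizer (Q : Set G)))}
    {B : Set (IrrCharacter G)} (hmax : IsMaximalBrauerPair p M B Q e) :
    Nat.card ↥(Q ⊓ Subgroup.centralizer (Q : Set G)) = p ^ blockDefect p e := by
  classical
  have he : IsPBlock M e := hmax.1.1.2
  obtain ⟨-, x, hle, hdef⟩ :=
    centralizerIn_defectGroup hM hmax le_rfl he Relation.ReflTransGen.refl
  have hQx : Q.map (MulAut.conj x).toMonoidHom = Q := by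
    apply Subgroup.eq_of_le_of_card_ge (subpairLE_le hle)
    rw [Subgroup.card_map_of_injective (MulAut.conj x).injective]
  have : Fintype (Subgroup.centralizer
    ((Q.map (MulAut.conj x).toMonoidHom : Subgroup G) : Set G)) := Fintype.ofFinite _
  have h1 := card_of_isDefectGroup hM _ (isPBlock_conjBlock Q x he) _ hdef
  rw [blockDefect_conjBlock, card_subgroupOf_eq _ _ inf_le_right, hQx] at h1
  exact h1

/-- when `|Z(Q)| = p ^ d(e)`, every member of `e` has defect zero modulo `Z(Q)` -/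
theorem degree_of_card_center [Fact p.Prime] (hM : IsPModular p M) (Q : Subgroup G)
    (e : Set (IrrCharacter (Subgroup.centralizer (Q : Set G)))) (he : IsPBlock M e)
    (hcard : Nat.card ↥(Q ⊓ Subgroup.centralizer (Q : Set G)) = p ^ blockDefect p e)
    (θ : IrrCharacter (Subgroup.centralizer (Q : Set G))) (hθ : θ ∈ e) :
    (charDegree (θ : Subgroup.centralizer (Q : Set G) → ℂ)).factorization p
      + (Nat.card ↥(Q ⊓ Subgroup.centralizer (Q : Set G))).factorization p
      = (Nat.card (Subgroup.centralizer (Q : Set G))).factorization p := by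
  classical
  have hp : p.Prime := Fact.out
  have : Fintype (Subgroup.centralizer (Q : Set G)) := Fintype.ofFinite _
  obtain ⟨m, hm, -, hdm, -⟩ := block_min_data hM he
  have h1 := hm θ hθ
  have h2 : (Nat.card ↥(Q ⊓ Subgroup.centralizer (Q : Set G))).factorization p
      = blockDefect p e := by
    rw [hcard, Nat.Prime.factorization_pow hp, Finsupp.single_eq_same]
  have hDZ : (Q ⊓ Subgroup.centralizer (Q : Set G)).subgroupOf
      (Subgroup.centralizer (Q : Set G)) ≤ Subgroup.center _ := by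
    intro z hz
    rw [Subgroup.mem_center_iff]
    intro c
    apply Subtype.ext
    have h1 : (z : G) ∈ Q := (Subgroup.mem_subgroupOf.mp hz).1
    exact (Subgroup.mem_centralizer_iff.mp c.2 (z : G) h1).symm
  have hcardD : Nat.card ((Q ⊓ Subgroup.centralizer (Q : Set G)).subgroupOf
      (Subgroup.centralizer (Q : Set G))) = Nat.card ↥(Q ⊓ Subgroup.centralizer (Q : Set G)) :=
    card_subgroupOf_eq _ _ inf_le_right
  have hidx := Subgroup.card_mul_index ((Q ⊓ Subgroup.centralizer (Q : Set G)).subgroupOf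
      (Subgroup.centralizer (Q : Set G)))
  obtain ⟨d, hd, hdeg, hdpos, -, -⟩ := Cfsg.Agent.S0914.irr_degree_data θ
  have hdvd : d ∣ ((Q ⊓ Subgroup.centralizer (Q : Set G)).subgroupOf
      (Subgroup.centralizer (Q : Set G))).index := by
    obtain ⟨n, ρ, hρ, hχ⟩ := θ.2
    have := hρ
    have hn1 : (θ : Subgroup.centralizer (Q : Set G) → ℂ) 1 = n := by
      rw [← hχ, Representation.char_one]; simp
    have hdn : d = n := by
      have : (d : ℂ) = (n : ℂ) := by rw [← hd, hn1]
      exact_mod_cast this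
    have h3 := degree_dvd_index_center ρ
    rw [Module.finrank_fin_fun] at h3
    rw [hdn]
    exact h3.trans (Subgroup.index_dvd_of_le hDZ)
  have h4 : Nat.card ((Q ⊓ Subgroup.centralizer (Q : Set G)).subgroupOf
      (Subgroup.centralizer (Q : Set G))) * d ∣ Nat.card (Subgroup.centralizer (Q : Set G)) := by
    rw [← hidx]
    exact Nat.mul_dvd_mul_left _ hdvd
  have h5 := (Nat.factorization_le_iff_dvd (Nat.mul_ne_zero Nat.card_pos.ne' hdpos.ne')
    Nat.card_pos.ne').mpr h4 p
  rw [Nat.factorization_mul Nat.card_pos.ne' hdpos.ne', Finsupp.add_apply, hcardD] at h5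
  rw [hdeg] at h1 ⊢
  omega

/-- every block of `C(Q)` has a member that is trivial on `Z(Q)` -/
theorem exists_mem_trivial_on_center [Fact p.Prime] (hM : IsPModular p M) (Q : Subgroup G)
    (e : Set (IrrCharacter (Subgroup.centralizer (Q : Set G)))) (he : IsBrauerPair p M Q e) :
    ∃ θ ∈ e, ∀ z : Subgroup.centralizer (Q : Set G), (z : G) ∈ Q →
      (θ : Subgroup.centralizer (Q : Set G) → ℂ) z
        = (θ : Subgroup.centralizer (Q : Set G) → ℂ) 1 := by
  classical
  have : Fintype (Subgroup.centralizer (Q : Set G)) := Fintype.ofFinite _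
  have hDp : IsPGroup p ((Q ⊓ Subgroup.centralizer (Q : Set G)).subgroupOf
      (Subgroup.centralizer (Q : Set G))) := (he.1.to_le inf_le_left).comap_subtype
  have hDn : ((Q ⊓ Subgroup.centralizer (Q : Set G)).subgroupOf
      (Subgroup.centralizer (Q : Set G))).Normal := by
    constructor
    intro z hz c
    have h1 : (z : G) ∈ Q := (Subgroup.mem_subgroupOf.mp hz).1
    have h2 : c * z * c⁻¹ = z := by
      apply Subtype.ext
      have h3 := Subgroup.mem_centralizer_iff.mp c.2 (z : G) h1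
      simp only [Subgroup.coe_mul, Subgroup.coe_inv]
      rw [← h3, mul_inv_cancel_right]
    rw [h2]
    exact hz
  obtain ⟨χ, θ, hθ, hθχ⟩ := exists_inflate_mem_block p M hM _ hDp e he.2
  refine ⟨θ, hθ, fun z hz => ?_⟩
  rw [hθχ]
  simp only [Function.comp]
  have h4 : (QuotientGroup.mk z : Subgroup.centralizer (Q : Set G) ⧸
      (Q ⊓ Subgroup.centralizer (Q : Set G)).subgroupOf (Subgroup.centralizer (Q : Set G)))
      = QuotientGroup.mk 1 := by
    rw [QuotientGroup.mk_one]
    exact (QuotientGroup.eq_one_iff z).mpr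
      (Subgroup.mem_subgroupOf.mpr (Subgroup.mem_inf.mpr ⟨hz, z.2⟩))
  rw [h4]

omit [Fintype G] in
theorem mem_of_pow_mem_coprime_pair {K : Subgroup G} {g : G} {a b : ℕ} (hab : a.Coprime b)
    (ha : g ^ a ∈ K) (hb : g ^ b ∈ K) : g ∈ K := by
  have h1 := Nat.gcd_eq_gcd_ab a b
  rw [hab.gcd_eq_one] at h1
  have h2 : g = (g ^ a) ^ (a.gcdA b) * (g ^ b) ^ (a.gcdB b) := by
    rw [← zpow_natCast, ← zpow_natCast, ← zpow_mul, ← zpow_mul, ← zpow_add, ← h1]
    simp
  rw [h2]
  exact K.mul_mem (K.zpow_mem ha _) (K.zpow_mem hb _)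

omit [Fintype G] in
/-- a set of irreducible characters is determined by its idempotent -/
theorem eq_of_blockCoeff_eq {K : Type*} [Group K] [Finite K] {f f' : Set (IrrCharacter K)}
    (h : blockCoeff f = blockCoeff f') : f = f' := by
  classical
  have : Fintype K := Fintype.ofFinite K
  ext θ
  have h1 := Cfsg.Agent.Lib.Helper25.omegaFun_blockCoeff f θ
  have h2 := Cfsg.Agent.Lib.Helper25.omegaFun_blockCoeff f' θ
  rw [h] at h1
  rw [h1] at h2
  by_cases hθ : θ ∈ f <;> by_cases hθ' : θ ∈ f' <;> simp [hθ, hθ'] at h2 ⊢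

omit [Fintype G] in
theorem eq_of_subgroupBlockCoeff_eq (K : Subgroup G) [Finite K] {f f' : Set (IrrCharacter K)}
    (h : subgroupBlockCoeff K f = subgroupBlockCoeff K f') : f = f' := by
  rw [subgroupBlockCoeff_eq, subgroupBlockCoeff_eq] at h
  exact eq_of_blockCoeff_eq (extendByZero_injective K h)

omit [Fintype G] in
/-- a set of characters of a subgroup is fixed by a normalizing element exactly when its
idempotent is -/
theorem conjSet_eq_iff_coeff (K : Subgroup G) [Fintype K]
    (n : ↥(Subgroup.normalizer (K : Set G))) (f : Set (IrrCharacter K)) :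
    conjSet K n f = f ↔ ∀ x : G, subgroupBlockCoeff K f ((n : G)⁻¹ * x * (n : G))
      = subgroupBlockCoeff K f x := by
  constructor
  · intro h x
    rw [← subgroupBlockCoeff_conjSet K n f x, h]
  · intro h
    apply eq_of_subgroupBlockCoeff_eq K
    funext x
    rw [subgroupBlockCoeff_conjSet]
    exact h x

/-- **the `p`-elements of the stabilizer of a maximal pair `(Q, e)` lie in `Q C(Q)`** -/
theorem pElement_mem_of_maximal [Fact p.Prime] (hM : IsPModular p M) {Q : Subgroup G}
    {e : Set (IrrCharacter (Subgroup.centralizer (Q : Set G)))}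
    {B : Set (IrrCharacter G)} (hmax : IsMaximalBrauerPair p M B Q e)
    (g : G) (hgN : g ∈ Subgroup.normalizer (Q : Set G))
    (hgS : StabilizesBlock (Subgroup.centralizer (Q : Set G)) e g)
    (hgp : ∃ k : ℕ, orderOf g = p ^ k) :
    g ∈ Q ⊔ Subgroup.centralizer (Q : Set G) := by
  classical
  have hpr := isPrime_of_isPModular hM
  have hp : p.Prime := Fact.out
  have hpair := hmax.1
  have hQp : IsPGroup p Q := hpair.1.1
  have he : IsPBlock M e := hpair.1.2
  have hB : IsPBlock M B := hpair.2.1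
  have : Fintype (Subgroup.centralizer (Q : Set G)) := Fintype.ofFinite _
  have : Fintype ↥(Q ⊔ Subgroup.centralizer (Q : Set G)) := Fintype.ofFinite _
  have hQH : Q ≤ Q ⊔ Subgroup.centralizer (Q : Set G) := le_sup_left
  have hCH : Subgroup.centralizer (Q : Set G) ≤ Q ⊔ Subgroup.centralizer (Q : Set G) :=
    le_sup_right
  have hHN := sup_centralizer_le_normalizer Q
  have hNC := normalizer_le_normalizer_centralizer Q
  have hNH := normalizer_le_normalizer_sup_centralizer Q
  obtain ⟨b, hb, hbcoef, hbom⟩ := exists_block_over hM Q (Q ⊔ Subgroup.centralizer (Q : Set G))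
    hQp hQH hCH hHN e he
  have hind : IsInducedBlock M (Q ⊔ Subgroup.centralizer (Q : Set G)) b B :=
    isInducedBlock_of_block_over hM _ hpair hQH hCH hHN b hb hbom
  have hdefB : IsDefectGroup p M B Q := isDefectGroup_of_isMaximalBrauerPair hM hmax
  -- the idempotent of `b` is that of `e`
  have hHstab : Q ⊔ Subgroup.centralizer (Q : Set G) ≤ pairStab hM Q e he :=
    sup_le (le_pairStab hM Q e he) (centralizer_le_pairStab hM Q e he)
  have horb := orbitSet_eq_of_stable hM (Subgroup.centralizer (Q : Set G))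
    (Q ⊔ Subgroup.centralizer (Q : Set G)) (hHN.trans hNC) he
    (fun x hx => ((mem_pairStab hM Q e he x).mp (hHstab hx)).2)
  rw [horb, ← subgroupBlockCoeff_eq] at hbcoef
  -- `Q` is a defect group of `b`
  have hbP : IsDefectGroup p M b (Q.subgroupOf (Q ⊔ Subgroup.centralizer (Q : Set G))) := by
    obtain ⟨D, hD⟩ := exists_defectGroup' hM b hb
    have hN : (Q.subgroupOf (Q ⊔ Subgroup.centralizer (Q : Set G))).Normal :=
      (Subgroup.normal_subgroupOf_iff_le_normalizer hQH).mpr hHN
    have hle := Cfsg.Agent.S0912.normal_le_defect p M hM b hb D hD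
      (Q.subgroupOf (Q ⊔ Subgroup.centralizer (Q : Set G))) hQp.comap_subtype
    obtain ⟨E, hE, hDE⟩ := defectGroup_le_of_induced hM _ hind D hD
    have hcE := Cfsg.Agent.S0908.result p M hM B hB E hE
    have hcQ := Cfsg.Agent.S0908.result p M hM B hB Q hdefB
    have hcard : Nat.card D ≤ Nat.card (Q.subgroupOf (Q ⊔ Subgroup.centralizer (Q : Set G))) := by
      rw [card_subgroupOf_eq _ _ hQH, hcQ, ← hcE,
        ← Subgroup.card_map_of_injective (Subgroup.subtype_injective _)]
      exact Subgroup.card_le_of_le hDE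
    rw [Subgroup.eq_of_le_of_card_ge hle hcard]
    exact hD
  -- the stabilizer of `b` is the stabilizer of `e`
  have hT : ∀ y : G, y ∈ pairStab hM Q e he ↔ (y ∈ Subgroup.normalizer (Q : Set G) ∧
      ∀ θ ∈ b, ∀ θ' : IrrCharacter ↥(Q ⊔ Subgroup.centralizer (Q : Set G)),
        (∀ h h' : ↥(Q ⊔ Subgroup.centralizer (Q : Set G)), (h' : G) = y * h * y⁻¹ →
          (θ' : ↥(Q ⊔ Subgroup.centralizer (Q : Set G)) → ℂ) h'
            = (θ : ↥(Q ⊔ Subgroup.centralizer (Q : Set G)) → ℂ) h) → θ' ∈ b) := by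
    intro y
    rw [mem_pairStab]
    constructor
    · rintro ⟨hyN, hyS⟩
      refine ⟨hyN, ?_⟩
      have h1 := (conjSet_eq_iff_coeff (Subgroup.centralizer (Q : Set G)) ⟨y, hNC hyN⟩ e).mp
        (conjSet_eq_of_subset _ hM ⟨y, hNC hyN⟩ he
          ((stabilizesBlock_iff (Subgroup.centralizer (Q : Set G)) ⟨y, hNC hyN⟩ e).mp hyS))
      have h2 : conjSet (Q ⊔ Subgroup.centralizer (Q : Set G)) ⟨y, hNH hyN⟩ b = b := by
        rw [conjSet_eq_iff_coeff, hbcoef]
        exact h1
      intro θ hθ θ' hθ'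
      have h3 := eq_nIrr_of_isConjCharOf (Q ⊔ Subgroup.centralizer (Q : Set G))
        ⟨y, hNH hyN⟩ θ θ' hθ'
      rw [← h2, h3]
      exact ⟨θ, hθ, rfl⟩
    · rintro ⟨hyN, hyS⟩
      refine ⟨hyN, ?_⟩
      have h2 : conjSet (Q ⊔ Subgroup.centralizer (Q : Set G)) ⟨y, hNH hyN⟩ b = b := by
        apply conjSet_eq_of_subset _ hM _ hb
        rintro ξ' ⟨ξ, hξ, rfl⟩
        exact hyS ξ hξ _ (isConjCharOf_nIrr (Q ⊔ Subgroup.centralizer (Q : Set G))
          ⟨y, hNH hyN⟩ ξ)
      have h1 := (conjSet_eq_iff_coeff (Q ⊔ Subgroup.centralizer (Q : Set G))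
        ⟨y, hNH hyN⟩ b).mp h2
      rw [hbcoef] at h1
      have h3 := (conjSet_eq_iff_coeff (Subgroup.centralizer (Q : Set G)) ⟨y, hNC hyN⟩ e).mpr h1
      apply (stabilizesBlock_iff (Subgroup.centralizer (Q : Set G)) ⟨y, hNC hyN⟩ e).mpr
      rw [h3]
  have hnd := (Cfsg.Agent.S4437.result p M hM Q hQp (Q ⊔ Subgroup.centralizer (Q : Set G)) rfl
    b hb hbP B hind (pairStab hM Q e he) hT).mp hdefB
  -- conclusion
  have hgT : g ∈ pairStab hM Q e he := (mem_pairStab hM Q e he g).mpr ⟨hgN, hgS⟩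
  have hTN : pairStab hM Q e he ≤ Subgroup.normalizer (Q : Set G) :=
    fun y hy => ((mem_pairStab hM Q e he y).mp hy).1
  have hnorm : ((Q ⊔ Subgroup.centralizer (Q : Set G)).subgroupOf (pairStab hM Q e he)).Normal :=
    (Subgroup.normal_subgroupOf_iff_le_normalizer hHstab).mpr (hTN.trans hNH)
  have h5 := Subgroup.pow_index_mem
    ((Q ⊔ Subgroup.centralizer (Q : Set G)).subgroupOf (pairStab hM Q e he))
    (⟨g, hgT⟩ : ↥(pairStab hM Q e he))
  rw [Subgroup.mem_subgroupOf] at h5
  obtain ⟨k, hk⟩ := hgp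
  have h6 : g ^ (p ^ k) ∈ Q ⊔ Subgroup.centralizer (Q : Set G) := by
    rw [← hk, pow_orderOf_eq_one]
    exact Subgroup.one_mem _
  have hcop : Nat.Coprime ((Q ⊔ Subgroup.centralizer (Q : Set G)).relIndex
      (pairStab hM Q e he)) (p ^ k) :=
    Nat.Coprime.pow_right k ((Nat.Prime.coprime_iff_not_dvd hp).mpr hnd).symm
  exact mem_of_pow_mem_coprime_pair hcop h5 h6

end maxpair

end Cfsg.Agent.Lib.Helper26
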