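import Mathlib
import Cfsg.Prelude.Def_Blocks
import Cfsg.Agent.Lib.Helper8.ThirdMain
import Cfsg.Agent.Lib.Helper8.BlockAux
import Cfsg.Agent.Lib.Helper8.DefectNum
import Cfsg.Agent.Lib.Helper8.BlockRing
import Cfsg.Agent.Lib.Helper8.Covering
import Cfsg.Agent.Lib.Helper25.BlockDefect
import Cfsg.Agent.Lib.Helper2.CharIntegral
import Cfsg.Agent.S0914

set_option autoImplicit false

/-!
Characters of odd degree and the principal `2`-block: if the central character of an
irreducible character of odd degree takes congruent values at `g` and `g⁻¹` for all elements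
`g` of odd order, the character lies in the principal `2`-block.
-/

namespace Cfsg.Agent.Lib.Helper26

open Cfsg Cfsg.Agent.Lib.Helper2 Cfsg.Agent.Lib.Helper25 Cfsg.Agent.Lib.Helper8

open scoped ComplexConjugate

/-- a sum over a set with an involution lies in the local ideal, if the fixed points and the
sums over the two-element orbits do -/
theorem sum_invol_mem {α : Type*} [DecidableEq α] (M : Ideal AlgInt) [M.IsPrime]
    (t : α → ℂ) (ι : α → α) :
    ∀ (n : ℕ) (s : Finset α), s.card = n → (∀ a ∈ s, ι a ∈ s) → (∀ a ∈ s, ι (ι a) = a) →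
      (∀ a ∈ s, ι a = a → MemLocalIdeal M (t a)) →
      (∀ a ∈ s, ι a ≠ a → MemLocalIdeal M (t a + t (ι a))) →
      MemLocalIdeal M (∑ a ∈ s, t a) := by
  intro n
  induction n using Nat.strong_induction_on with
  | _ n ih =>
    intro s hs hιs hι hfix hpair
    rcases s.eq_empty_or_nonempty with rfl | ⟨a, ha⟩
    · rw [Finset.sum_empty]
      exact memLocalIdeal_zero M
    · by_cases hfa : ι a = a
      · have hs' : (s.erase a).card < n := by
          rw [← hs]
          exact Finset.card_erase_lt_of_mem ha
        have h1 := ih _ hs' (s.erase a) rfl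
          (by
            intro b hb
            rw [Finset.mem_erase] at hb ⊢
            refine ⟨?_, hιs b hb.2⟩
            intro h
            apply hb.1
            rw [← hι b hb.2, h, hfa])
          (fun b hb => hι b (Finset.mem_of_mem_erase hb))
          (fun b hb => hfix b (Finset.mem_of_mem_erase hb))
          (fun b hb => hpair b (Finset.mem_of_mem_erase hb))
        rw [← Finset.add_sum_erase s t ha]
        exact MemLocalIdeal.add M (hfix a ha hfa) h1
      · have ha' : ι a ∈ s.erase a := Finset.mem_erase.mpr ⟨hfa, hιs a ha⟩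
        have hs' : ((s.erase a).erase (ι a)).card < n := by
          rw [← hs]
          exact lt_trans (Finset.card_erase_lt_of_mem ha') (Finset.card_erase_lt_of_mem ha)
        have hsub : ∀ b ∈ (s.erase a).erase (ι a), b ∈ s := fun b hb =>
          Finset.mem_of_mem_erase (Finset.mem_of_mem_erase hb)
        have h1 := ih _ hs' ((s.erase a).erase (ι a)) rfl
          (by
            intro b hb
            have hbs := hsub b hb
            rw [Finset.mem_erase, Finset.mem_erase] at hb ⊢
            obtain ⟨hb1, hb2, -⟩ := hb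
            refine ⟨?_, ?_, hιs b hbs⟩
            · intro h
              apply hb2
              rw [← hι b hbs, h, hι a ha]
            · intro h
              apply hb1
              rw [← hι b hbs, h])
          (fun b hb => hι b (hsub b hb))
          (fun b hb => hfix b (hsub b hb))
          (fun b hb => hpair b (hsub b hb))
        rw [← Finset.add_sum_erase s t ha, ← Finset.add_sum_erase (s.erase a) t ha', ← add_assoc]
        exact MemLocalIdeal.add M (hpair a ha hfa) h1

section grp

variable {G : Type*} [Group G]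

theorem isConj_inv_inv {a b : G} (h : IsConj a b) : IsConj a⁻¹ b⁻¹ := by
  obtain ⟨w, hw⟩ := isConj_iff.mp h
  exact isConj_iff.mpr ⟨w, by rw [← hw]; group⟩

theorem orderOf_eq_of_isConj {a b : G} (h : IsConj a b) : orderOf a = orderOf b := by
  obtain ⟨w, hw⟩ := isConj_iff.mp h
  have := (MulAut.conj w).orderOf_eq a
  rw [MulAut.conj_apply, hw] at this
  exact this.symm

theorem centralizer_inv (g : G) :
    Subgroup.centralizer ({g⁻¹} : Set G) = Subgroup.centralizer ({g} : Set G) := by
  ext h
  rw [Subgroup.mem_centralizer_singleton_iff, Subgroup.mem_centralizer_singleton_iff]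
  constructor
  · intro e
    have : g * h = g * (h * g⁻¹) * g := by group
    rw [this, e]; group
  · intro e
    have : g⁻¹ * h = g⁻¹ * (h * g) * g⁻¹ := by group
    rw [this, e]; group

variable [Fintype G]

open Classical in
/-- a real class of nontrivial elements of odd order has even size -/
theorem even_index_of_real {x : G} (hx : x ≠ 1) (hodd : Odd (orderOf x))
    (hreal : IsConj x x⁻¹) : 2 ∣ (Subgroup.centralizer ({x} : Set G)).index := by
  rw [← card_isConj_eq_index x]
  have h : (∑ y ∈ Finset.univ.filter (fun h : G => IsConj x h), (1 : ZMod 2)) = 0 := by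
    apply Finset.sum_involution (fun y _ => y⁻¹)
    · intro y _
      decide
    · intro y hy _ hyy
      rw [Finset.mem_filter] at hy
      have hy2 : y ^ 2 = 1 := by
        rw [pow_two]
        nth_rewrite 1 [← hyy]
        exact inv_mul_cancel y
      have hdvd := orderOf_dvd_of_pow_eq_one hy2
      rw [← orderOf_eq_of_isConj hy.2] at hdvd
      have h1 : orderOf x = 1 := by
        rcases (Nat.dvd_prime Nat.prime_two).mp hdvd with h | h
        · exact h
        · rw [h] at hodd
          exact absurd hodd (by decide)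
      exact hx (orderOf_eq_one_iff.mp h1)
    · intro y _
      exact inv_inv y
    · intro y hy
      rw [Finset.mem_filter] at hy ⊢
      exact ⟨Finset.mem_univ _, hreal.trans (isConj_inv_inv hy.2)⟩
  rw [Finset.sum_const, nsmul_eq_mul, mul_one] at h
  exact (ZMod.natCast_eq_zero_iff _ _).mp h

variable (M : Ideal AlgInt)

/-- the central character of a character of odd degree at a class of even size lies in the
local ideal (for the prime `2`) -/
theorem centralChar_mem_of_even (hM : IsPModular 2 M) (χ : IrrCharacter G)
    (hodd : Odd (charDegree (χ : G → ℂ))) (x : G)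
    (hx : 2 ∣ (Subgroup.centralizer ({x} : Set G)).index) :
    MemLocalIdeal M (centralChar (χ : G → ℂ) x) := by
  have hpr := isPrime_of_isPModular hM
  obtain ⟨d, hd, hdeg, hdpos, -, -⟩ := Cfsg.Agent.S0914.irr_degree_data χ
  rw [hdeg] at hodd
  obtain ⟨j, hj⟩ := hx
  obtain ⟨n, ρ, hρ, hχρ⟩ := χ.2
  have hint : IsIntegral ℤ ((χ : G → ℂ) x) := by
    rw [← hχρ]
    exact char_isIntegral ρ x
  have hd2 : ¬ 2 ∣ d := by
    intro h
    exact (Nat.not_even_iff_odd.mpr hodd) (even_iff_two_dvd.mpr h)
  have e : centralChar (χ : G → ℂ) x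
      = ((2 : ℕ) : ℂ) * ((j : ℂ) * (χ : G → ℂ) x * ((d : ℂ))⁻¹) := by
    unfold centralChar
    rw [hj, hd]
    push_cast
    ring
  rw [e]
  apply MemLocalIdeal.mul_right M (memLocalIdeal_p hM)
  exact MemLocalRing.mul M (MemLocalRing.mul M (memLocalRing_natCast M j)
    (memLocalRing_of_isIntegral M hint)) (memLocalRing_inv_natCast hM hd2)

open Classical in
/-- for a character of odd degree whose central character is congruent at `g` and `g⁻¹` for all
`g` of odd order, the central character at the sum of the elements of odd order is congruent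
to `1` -/
theorem regular_sum_sub_one_mem (hM : IsPModular 2 M) (χ : IrrCharacter G)
    (hodd : Odd (charDegree (χ : G → ℂ)))
    (H : ∀ g : G, ¬ 2 ∣ orderOf g →
      MemLocalIdeal M (centralChar (χ : G → ℂ) g - centralChar (χ : G → ℂ) g⁻¹)) :
    MemLocalIdeal M (omegaFun (χ : G → ℂ) (regInd 2 G) - 1) := by
  have hpr := isPrime_of_isPModular hM
  have hχcl := isClassFunction_of_isIrrCharacter χ.2
  rw [omegaFun_eq_sum_classes _ hχcl _ regInd_isClassFunction]
  set T : G → ℂ := fun g => regInd 2 G g * centralChar (χ : G → ℂ) g with hT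
  have hTcl : IsClassFunction G T := by
    intro g h
    simp only [hT]
    rw [regInd_isClassFunction g h, centralChar_conj]
  have hout : ∀ c : ConjClasses G, ConjClasses.mk c.out = c := fun c => Quotient.out_eq c
  have hconj : ∀ y : G, IsConj (ConjClasses.mk y).out y := fun y =>
    ConjClasses.mk_eq_mk_iff_isConj.mp (hout _)
  set c₀ : ConjClasses G := ConjClasses.mk 1 with hc₀
  have h1 : (c₀.out : G) = 1 := isConj_one_left.mp (hconj 1)
  have hne := irr_one_ne_zero χ.2
  have ht0 : regInd 2 G c₀.out * centralChar (χ : G → ℂ) c₀.out = 1 := by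
    rw [h1]
    have e1 : regInd 2 G (1 : G) = 1 := by
      unfold regInd
      rw [orderOf_one, if_neg (by decide)]
    have e2 : Subgroup.centralizer ({(1 : G)} : Set G) = ⊤ := by
      ext h
      rw [Subgroup.mem_centralizer_singleton_iff]
      simp
    rw [e1, one_mul]
    unfold centralChar
    rw [e2, Subgroup.index_top, Nat.cast_one, one_mul, div_self hne]
  rw [← Finset.add_sum_erase Finset.univ _ (Finset.mem_univ c₀), ht0, add_sub_cancel_left]
  set ι : ConjClasses G → ConjClasses G := fun c => ConjClasses.mk (c.out⁻¹) with hι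
  have hTι : ∀ c : ConjClasses G, T (ι c).out = T (c.out⁻¹) := by
    intro c
    obtain ⟨w, hw⟩ := isConj_iff.mp (hconj (c.out⁻¹))
    have e := hTcl (ι c).out w
    rw [← e]
    exact congrArg T hw
  have hTinv : ∀ g : G, T g⁻¹ = regInd 2 G g * centralChar (χ : G → ℂ) g⁻¹ := by
    intro g
    simp only [hT]
    unfold regInd
    rw [orderOf_inv]
  apply sum_invol_mem M _ ι _ _ rfl
  · intro c hc
    rw [Finset.mem_erase] at hc ⊢
    refine ⟨?_, Finset.mem_univ _⟩
    intro h
    apply hc.1
    have h2 : IsConj (c.out⁻¹) (1 : G) := ConjClasses.mk_eq_mk_iff_isConj.mp h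
    have h3 : c.out = 1 := inv_eq_one.mp (isConj_one_left.mp h2)
    rw [← hout c, h3]
  · intro c _
    have h2 := isConj_inv_inv (hconj (c.out⁻¹))
    rw [inv_inv] at h2
    show ConjClasses.mk ((ConjClasses.mk (c.out⁻¹)).out⁻¹) = c
    rw [ConjClasses.mk_eq_mk_iff_isConj.mpr h2, hout]
  · intro c hc hfix
    rw [Finset.mem_erase] at hc
    show MemLocalIdeal M (regInd 2 G c.out * centralChar (χ : G → ℂ) c.out)
    have hx1 : c.out ≠ 1 := by
      intro h
      apply hc.1
      rw [← hout c, h]
    have hreal : IsConj c.out (c.out⁻¹) := by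
      have h2 : ConjClasses.mk (c.out⁻¹) = ConjClasses.mk c.out := by
        rw [hout c]
        exact hfix
      exact (ConjClasses.mk_eq_mk_iff_isConj.mp h2).symm
    by_cases h2 : 2 ∣ orderOf c.out
    · unfold regInd
      rw [if_pos h2, zero_mul]
      exact memLocalIdeal_zero M
    · unfold regInd
      rw [if_neg h2, one_mul]
      have hodd' : Odd (orderOf c.out) := by
        rw [← Nat.not_even_iff_odd]
        intro he
        exact h2 (even_iff_two_dvd.mp he)
      exact centralChar_mem_of_even M hM χ hodd _ (even_index_of_real hx1 hodd' hreal)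
  · intro c _ _
    show MemLocalIdeal M (T c.out + T (ι c).out)
    rw [hTι, hTinv]
    simp only [hT]
    by_cases h2 : 2 ∣ orderOf c.out
    · unfold regInd
      rw [if_pos h2, zero_mul, zero_mul, add_zero]
      exact memLocalIdeal_zero M
    · have e1 : regInd 2 G c.out = 1 := by
        unfold regInd
        rw [if_neg h2]
      rw [e1, one_mul, one_mul]
      have e : centralChar (χ : G → ℂ) c.out + centralChar (χ : G → ℂ) c.out⁻¹
          = ((2 : ℕ) : ℂ) * centralChar (χ : G → ℂ) c.out
            - (centralChar (χ : G → ℂ) c.out - centralChar (χ : G → ℂ) c.out⁻¹) := by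
        push_cast
        ring
      rw [e]
      exact MemLocalIdeal.sub M (MemLocalIdeal.mul_right M (memLocalIdeal_p hM)
        (memLocalRing_of_isIntegral M (centralChar_isIntegral χ _))) (H _ h2)

/-- under the same hypotheses the character lies in the principal `2`-block -/
theorem mem_principal_of_inv (hM : IsPModular 2 M) (χ : IrrCharacter G)
    (hodd : Odd (charDegree (χ : G → ℂ)))
    (H : ∀ g : G, ¬ 2 ∣ orderOf g →
      MemLocalIdeal M (centralChar (χ : G → ℂ) g - centralChar (χ : G → ℂ) g⁻¹)) :
    χ ∈ principalBlock M G := by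
  have hpr := isPrime_of_isPModular hM
  have : Fact (Nat.Prime 2) := ⟨Nat.prime_two⟩
  by_contra hχ
  have h0 := omegaFun_regInd_eq_zero hM χ hχ
  have h1 := regular_sum_sub_one_mem M hM χ hodd H
  rw [h0, zero_sub] at h1
  have h2 := MemLocalIdeal.neg M h1
  rw [neg_neg] at h2
  exact not_memLocalIdeal_one M h2


/-- a sum over the conjugacy classes of a class function `T` lies in the local ideal, if `T`
does at the real elements and `T g + T g⁻¹` does for all `g` -/
theorem class_invol_mem [M.IsPrime] {T : G → ℂ} (hTcl : IsClassFunction G T)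
    (hreal : ∀ g : G, IsConj g g⁻¹ → MemLocalIdeal M (T g))
    (hpair : ∀ g : G, MemLocalIdeal M (T g + T g⁻¹)) {inst : Fintype (ConjClasses G)} :
    MemLocalIdeal M (∑ c ∈ (@Finset.univ (ConjClasses G) inst), T c.out) := by
  classical
  have hout : ∀ c : ConjClasses G, ConjClasses.mk c.out = c := fun c => Quotient.out_eq c
  have hconj : ∀ y : G, IsConj (ConjClasses.mk y).out y := fun y =>
    ConjClasses.mk_eq_mk_iff_isConj.mp (hout _)
  set ι : ConjClasses G → ConjClasses G := fun c => ConjClasses.mk (c.out⁻¹) with hι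
  have hTι : ∀ c : ConjClasses G, T (ι c).out = T (c.out⁻¹) := by
    intro c
    obtain ⟨w, hw⟩ := isConj_iff.mp (hconj (c.out⁻¹))
    have e := hTcl (ι c).out w
    rw [← e]
    exact congrArg T hw
  apply sum_invol_mem M (fun c : ConjClasses G => T c.out) ι _ _ rfl
  · intro c _
    exact Finset.mem_univ _
  · intro c _
    have h2 := isConj_inv_inv (hconj (c.out⁻¹))
    rw [inv_inv] at h2
    show ConjClasses.mk ((ConjClasses.mk (c.out⁻¹)).out⁻¹) = c
    rw [ConjClasses.mk_eq_mk_iff_isConj.mpr h2, hout]
  · intro c _ hfix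
    apply hreal
    have h2 : ConjClasses.mk (c.out⁻¹) = ConjClasses.mk c.out := by
      rw [hout c]
      exact hfix
    exact (ConjClasses.mk_eq_mk_iff_isConj.mp h2).symm
  · intro c _ _
    show MemLocalIdeal M (T c.out + T (ι c).out)
    rw [hTι]
    exact hpair _

open Classical in
/-- the indicator function of the real elements of odd order -/
noncomputable def realInd (G : Type*) [Group G] : G → ℂ :=
  fun g => if ¬ 2 ∣ orderOf g ∧ IsConj g g⁻¹ then 1 else 0

omit [Fintype G] in
theorem realInd_congr {H : Type*} [Group H] {g : G} {h : H} (e1 : orderOf g = orderOf h)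
    (e2 : IsConj g g⁻¹ ↔ IsConj h h⁻¹) : realInd G g = realInd H h := by
  unfold realInd
  rw [e1, e2]

omit [Fintype G] in
theorem realInd_inv (g : G) : realInd G g⁻¹ = realInd G g := by
  apply realInd_congr (orderOf_inv g)
  rw [inv_inv]
  exact ⟨fun h => h.symm, fun h => h.symm⟩

omit [Fintype G] in
theorem realInd_isClassFunction : IsClassFunction G (realInd G) := by
  intro g h
  apply realInd_congr
  · have := (MulAut.conj h).orderOf_eq g
    rw [MulAut.conj_apply] at this
    exact this
  · have hc : IsConj g (h * g * h⁻¹) := isConj_iff.mpr ⟨h, rfl⟩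
    constructor
    · intro h1
      exact hc.trans (h1.trans (isConj_inv_inv hc).symm)
    · intro h1
      exact hc.symm.trans (h1.trans (isConj_inv_inv hc))

omit [Fintype G] in
theorem realInd_of_real {g : G} (h1 : ¬ 2 ∣ orderOf g) (h2 : IsConj g g⁻¹) : realInd G g = 1 := by
  unfold realInd
  rw [if_pos ⟨h1, h2⟩]

omit [Fintype G] in
theorem realInd_of_even {g : G} (h1 : 2 ∣ orderOf g) : realInd G g = 0 := by
  unfold realInd
  rw [if_neg (fun h => h.1 h1)]

omit [Fintype G] in
theorem realInd_of_not_real {g : G} (h2 : ¬ IsConj g g⁻¹) : realInd G g = 0 := by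
  unfold realInd
  rw [if_neg (fun h => h2 h.2)]

omit [Fintype G] in
theorem realInd_mem [M.IsPrime] (g : G) : MemLocalRing M (realInd G g) := by
  unfold realInd
  split_ifs
  · exact memLocalRing_one M
  · exact memLocalRing_zero M

/-- for a character that takes the same value at `g` and `g⁻¹` for all `g` of odd order, the
central character at the sum of the elements of odd order is congruent to the one at the sum
of the real elements of odd order -/
theorem omegaFun_regInd_sub_realInd_mem (hM : IsPModular 2 M) (ζ : IrrCharacter G)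
    (hreal : ∀ g : G, ¬ 2 ∣ orderOf g → (ζ : G → ℂ) g⁻¹ = (ζ : G → ℂ) g) :
    MemLocalIdeal M (omegaFun (ζ : G → ℂ) (regInd 2 G) - omegaFun (ζ : G → ℂ) (realInd G)) := by
  classical
  have hpr := isPrime_of_isPModular hM
  have hζcl := isClassFunction_of_isIrrCharacter ζ.2
  rw [← omegaFun_sub]
  have hrcl : IsClassFunction G (regInd 2 G - realInd G) := by
    intro g h
    simp only [Pi.sub_apply]
    rw [regInd_isClassFunction g h, realInd_isClassFunction g h]
  rw [omegaFun_eq_sum_classes _ hζcl _ hrcl]
  set T : G → ℂ := fun g => (regInd 2 G - realInd G) g * centralChar (ζ : G → ℂ) g with hT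
  have hTcl : IsClassFunction G T := by
    intro g h
    simp only [hT]
    rw [hrcl g h, centralChar_conj]
  have hregInv : ∀ g : G, regInd 2 G g⁻¹ = regInd 2 G g := by
    intro g
    unfold regInd
    rw [orderOf_inv]
  apply class_invol_mem M hTcl
  · intro g hg
    simp only [hT, Pi.sub_apply]
    by_cases h2 : 2 ∣ orderOf g
    · rw [realInd_of_even h2]
      unfold regInd
      rw [if_pos h2, sub_zero, zero_mul]
      exact memLocalIdeal_zero M
    · rw [realInd_of_real h2 hg]
      unfold regInd
      rw [if_neg h2, sub_self, zero_mul]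
      exact memLocalIdeal_zero M
  · intro g
    simp only [hT, Pi.sub_apply]
    rw [hregInv, realInd_inv]
    by_cases h2 : 2 ∣ orderOf g
    · rw [realInd_of_even h2]
      unfold regInd
      rw [if_pos h2, sub_zero, zero_mul, zero_mul, add_zero]
      exact memLocalIdeal_zero M
    · have e1 : centralChar (ζ : G → ℂ) g⁻¹ = centralChar (ζ : G → ℂ) g := by
        unfold centralChar
        rw [centralizer_inv, hreal g h2]
      rw [e1]
      have e : (regInd 2 G g - realInd G g) * centralChar (ζ : G → ℂ) g
          + (regInd 2 G g - realInd G g) * centralChar (ζ : G → ℂ) g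
          = ((2 : ℕ) : ℂ) * ((regInd 2 G g - realInd G g) * centralChar (ζ : G → ℂ) g) := by
        push_cast
        ring
      rw [e]
      have : Fact (Nat.Prime 2) := ⟨Nat.prime_two⟩
      exact MemLocalIdeal.mul_right M (memLocalIdeal_p hM)
        (MemLocalRing.mul M (MemLocalRing.sub M (regInd_memLocalRing hM g) (realInd_mem M g))
          (memLocalRing_of_isIntegral M (centralChar_isIntegral ζ _)))

end grp

section oddindex

variable {G : Type*} [Group G]

theorem inverts_pow_odd {w g : G} (h : w * g * w⁻¹ = g⁻¹) {m : ℕ} (hm : Odd m) :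
    w ^ m * g * (w ^ m)⁻¹ = g⁻¹ := by
  obtain ⟨j, rfl⟩ := hm
  have hwg : w * g = g⁻¹ * w := by
    rw [← h]
    group
  have hwg' : w * g⁻¹ = g * w := by
    have e3 : w * g⁻¹ * w⁻¹ = g := by
      have e2 : w * g⁻¹ * w⁻¹ = (w * g * w⁻¹)⁻¹ := by group
      rw [e2, h, inv_inv]
    calc w * g⁻¹ = (w * g⁻¹ * w⁻¹) * w := by group
      _ = g * w := by rw [e3]
  have h2 : Commute (w ^ 2) g := by
    show w ^ 2 * g = g * w ^ 2
    rw [pow_two, mul_assoc, hwg, ← mul_assoc, hwg', mul_assoc]
  have h3 : Commute ((w ^ 2) ^ j) g⁻¹ := (h2.pow_left j).inv_right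
  have e : w ^ (2 * j + 1) * g * (w ^ (2 * j + 1))⁻¹
      = (w ^ 2) ^ j * (w * g * w⁻¹) * ((w ^ 2) ^ j)⁻¹ := by
    rw [pow_succ, pow_mul, mul_inv_rev]
    simp only [mul_assoc]
  rw [e, h, h3.eq, mul_inv_cancel_right]

theorem pow_index_mem [Finite G] (N : Subgroup G) [N.Normal] (w : G) : w ^ N.index ∈ N := by
  have h1 : ((w : G ⧸ N)) ^ Nat.card (G ⧸ N) = 1 := pow_card_eq_one'
  rw [← Subgroup.index_eq_card, ← QuotientGroup.mk_pow] at h1
  exact (QuotientGroup.eq_one_iff _).mp h1

/-- a real element lies in every normal subgroup of odd index, and is real there -/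
theorem real_mem_of_odd_index [Finite G] (N : Subgroup G) [N.Normal] (hidx : Odd N.index) {g : G}
    (hg : IsConj g g⁻¹) : ∃ t ∈ N, t * g * t⁻¹ = g⁻¹ ∧ g ∈ N := by
  obtain ⟨w, hw⟩ := isConj_iff.mp hg
  have ht := inverts_pow_odd hw hidx
  have htN := pow_index_mem N w
  generalize w ^ N.index = t at ht htN
  refine ⟨t, htN, ht, ?_⟩
  -- `g ^ 2 ∈ N` and `g ^ index ∈ N`
  have h2 : g ^ 2 ∈ N := by
    have e2 : t * g⁻¹ * t⁻¹ = g := by
      have e3 : t * g⁻¹ * t⁻¹ = (t * g * t⁻¹)⁻¹ := by group
      rw [e3, ht, inv_inv]
    have e : g ^ 2 = (g * t * g⁻¹) * t⁻¹ := by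
      rw [pow_two]
      nth_rewrite 2 [← e2]
      group
    rw [e]
    exact N.mul_mem (Subgroup.Normal.conj_mem inferInstance _ htN g) (N.inv_mem htN)
  have h3 := pow_index_mem N g
  obtain ⟨j, hj⟩ := hidx
  have hc : Commute ((g ^ 2) ^ j) g := ((Commute.refl g).pow_left 2).pow_left j
  have e : g = g ^ N.index * ((g ^ 2) ^ j)⁻¹ := by
    rw [hj, pow_succ, pow_mul, hc.eq, mul_inv_cancel_right]
  rw [e]
  exact N.mul_mem h3 (N.inv_mem (N.pow_mem h2 j))

end oddindex

section cover

variable {G : Type*} [Group G] [Fintype G] (M : Ideal AlgInt)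

/-- for a normal subgroup `N` of odd index, the central characters of `χ` and of a constituent
`θ` of its restriction agree at the sum of the real elements of odd order -/
theorem omegaFun_realInd_eq (N : Subgroup G) [hN : N.Normal] [Fintype N] (hidx : Odd N.index)
    (χ : IrrCharacter G) (θ : IrrCharacter N)
    (he : classInner (fun n : N => (χ : G → ℂ) n) (θ : N → ℂ) ≠ 0) :
    omegaFun (χ : G → ℂ) (realInd G) = omegaFun (θ : N → ℂ) (realInd N) := by
  have hf : ∀ (g : G) (n : N), realInd N ((MulAut.conjNormal g : MulAut N) n) = realInd N n := by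
    intro g n
    apply realInd_congr
    · exact (MulAut.conjNormal g : MulAut N).orderOf_eq n
    · constructor
      · intro h
        obtain ⟨m, hm⟩ := isConj_iff.mp h
        apply isConj_iff.mpr
        refine ⟨(MulAut.conjNormal g : MulAut N).symm m, ?_⟩
        apply (MulAut.conjNormal g : MulAut N).injective
        rw [map_mul, map_mul, map_inv, map_inv, MulEquiv.apply_symm_apply]
        exact hm
      · intro h
        obtain ⟨m, hm⟩ := isConj_iff.mp h
        apply isConj_iff.mpr
        refine ⟨(MulAut.conjNormal g : MulAut N) m, ?_⟩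
        rw [← map_inv, ← map_inv, ← map_mul, ← map_mul, hm]
  rw [← omegaFun_extend_of_constituent N χ θ he (realInd N) hf]
  congr 1
  funext g
  by_cases hg : g ∈ N
  · rw [extendByZero_of_mem N _ hg]
    apply realInd_congr
    · exact (Subgroup.orderOf_mk g hg).symm
    · constructor
      · intro h
        obtain ⟨t, htN, ht, -⟩ := real_mem_of_odd_index N hidx h
        apply isConj_iff.mpr
        refine ⟨⟨t, htN⟩, ?_⟩
        apply Subtype.ext
        simp only [Subgroup.coe_mul, Subgroup.coe_inv]
        exact ht
      · intro h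
        obtain ⟨m, hm⟩ := isConj_iff.mp h
        apply isConj_iff.mpr
        refine ⟨(m : G), ?_⟩
        have := congrArg (Subtype.val : N → G) hm
        simpa using this
  · rw [extendByZero_of_not_mem N _ hg]
    apply realInd_of_not_real
    intro h
    obtain ⟨t, htN, ht, hgN⟩ := real_mem_of_odd_index N hidx h
    exact hg hgN

end cover

end Cfsg.Agent.Lib.Helper26
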