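import Mathlib
import Cfsg.Agent.Lib.Helper26.IndStab
import Cfsg.Agent.Lib.Helper26.Constituent
import Cfsg.Agent.Lib.Helper25.Quot
import Cfsg.Agent.Lib.Helper2.BrauerLocal
import Cfsg.Agent.Lib.Helper2.CharMore
import Cfsg.Agent.S4757

/-!
# Groups all of whose irreducible degrees are below a prime

If every irreducible character of a finite group has degree less than the prime `p`, the Sylow
`p`-subgroups are normal and abelian.  The proof is by a minimal counterexample: the Sylow
subgroup is abelian and a trivial-intersection subgroup, and the permutation character on the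
cosets of its normalizer has a constituent of large degree.
-/

set_option autoImplicit false

namespace Cfsg.Agent.Lib.Helper26.SmallDeg

open Cfsg Cfsg.Agent.Lib.Helper2 Cfsg.Agent.Lib.Helper25 Cfsg.Agent.Lib.Helper26

open scoped ComplexConjugate

universe u

/-- all irreducible degrees are less than `p` -/
def Pr (p : ℕ) (G : Type u) [Group G] : Prop :=
  ∀ χ : IrrCharacter G, charDegree (χ : G → ℂ) < p

/-- the value of a character at the identity is a natural number -/
theorem char_one_nat {K : Type*} [Group K] {θ : K → ℂ} (h : IsCharacter K θ) :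
    ∃ m : ℕ, θ 1 = m := by
  obtain ⟨n, ρ, rfl⟩ := h
  exact ⟨_, Representation.char_one ρ⟩

/-- the property passes to quotients -/
theorem Pr.quot {p : ℕ} {G : Type u} [Group G] [Finite G] (h : Pr p G) (N : Subgroup G)
    [N.Normal] : Pr p (G ⧸ N) := by
  intro ψ
  exact h ⟨fun g : G => (ψ : G ⧸ N → ℂ) (g : G ⧸ N), inflate_irr N ψ.2⟩

/-- the property passes to subgroups -/
theorem Pr.sub {p : ℕ} {G : Type u} [Group G] [Finite G] (h : Pr p G) (H : Subgroup G) :
    Pr p H := by
  classical
  have : Fintype G := Fintype.ofFinite G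
  have : Fintype H := Fintype.ofFinite H
  have : Fintype (IrrCharacter G) := Fintype.ofFinite _
  intro θ
  obtain ⟨d, hd1, hdpos, -, hd⟩ := irr_degree θ
  have hex : ∃ χ : IrrCharacter G,
      classInner (fun h : H => (χ : G → ℂ) h) (θ : H → ℂ) ≠ 0 := by
    by_contra hcon
    push Not at hcon
    have hexp := class_fun_expand (indFun H (θ : H → ℂ)) (indFun_isClassFunction H _)
    have hz : indFun H (θ : H → ℂ) = 0 := by
      rw [hexp]
      apply Finset.sum_eq_zero
      intro χ _
      rw [frobenius_reciprocity H _ _ (isClassFunction_of_isIrrCharacter χ.2),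
        ← classInner_conj_symm, hcon χ, map_zero, zero_smul]
    have h1 := congrFun hz 1
    rw [indFun_apply_one, hd1] at h1
    simp only [Pi.zero_apply, mul_eq_zero, Nat.cast_eq_zero] at h1
    rcases h1 with h1 | h1
    · exact Subgroup.index_ne_zero_of_finite h1
    · omega
  obtain ⟨χ, hχ⟩ := hex
  obtain ⟨e, he1, -, -, he⟩ := irr_degree χ
  have hΔ := IsCharacter.sub_irr (IsCharacter.restrict (isCharacter_of_isIrrCharacter χ.2) H)
    θ.2 hχ
  obtain ⟨m, hm⟩ := char_one_nat hΔ
  have hlt := h χ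
  rw [he] at hlt
  rw [hd]
  have h2 : (e : ℂ) = (d : ℂ) + (m : ℂ) := by
    rw [← hm, ← hd1, ← he1]
    simp
  have h3 : e = d + m := by exact_mod_cast h2
  omega

/-- a `p`-group with all irreducible degrees below `p` is abelian -/
theorem comm_of_pgroup {p : ℕ} (hp : p.Prime) {K : Type u} [Group K] [Finite K]
    (hK : IsPGroup p K) (h : Pr p K) (a b : K) : a * b = b * a := by
  classical
  have : Fact p.Prime := ⟨hp⟩
  have : Fintype K := Fintype.ofFinite K
  have : Fintype (IrrCharacter K) := Fintype.ofFinite _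
  by_contra hab
  have hu : a * b * a⁻¹ * b⁻¹ ≠ 1 := by
    intro h1
    apply hab
    calc a * b = a * b * a⁻¹ * b⁻¹ * (b * a) := by group
      _ = b * a := by rw [h1, one_mul]
  have hsum := Cfsg.Agent.S4757.sum_deg_mul (a * b * a⁻¹ * b⁻¹) hu
  have hterm : ∀ χ : IrrCharacter K,
      (χ : K → ℂ) 1 * (χ : K → ℂ) (a * b * a⁻¹ * b⁻¹) = 1 := by
    intro χ
    obtain ⟨d, hd1, hdpos, hddvd, hd⟩ := irr_degree χ
    have hlt := h χ
    rw [hd] at hlt
    obtain ⟨k, hk⟩ := IsPGroup.iff_card.mp hK
    rw [hk] at hddvd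
    obtain ⟨j, hj, rfl⟩ := (Nat.dvd_prime_pow hp).mp hddvd
    have hj0 : j = 0 := by
      by_contra hj0
      have : p ≤ p ^ j := Nat.le_self_pow hj0 p
      omega
    subst hj0
    obtain ⟨lam, hlam⟩ := hom_of_charDegree_one χ (by rw [hd, pow_zero])
    rw [hlam]
    simp only [map_one, map_mul, map_inv]
    have : lam a * lam b * (lam a)⁻¹ * (lam b)⁻¹ = 1 := by
      rw [mul_comm (lam a) (lam b)]; group
    rw [this]
    simp
  rw [Finset.sum_congr rfl (fun χ _ => hterm χ)] at hsum
  simp only [Finset.sum_const, Finset.card_univ, nsmul_eq_mul, mul_one, Nat.cast_eq_zero] at hsum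
  have hne : Nonempty (IrrCharacter K) := ⟨⟨fun _ => 1, isIrrCharacter_one⟩⟩
  exact Fintype.card_ne_zero hsum

/-- lifting normality of Sylow subgroups through a normal `p`-subgroup -/
theorem sylow_normal_of_quot {p : ℕ} [Fact p.Prime] {G : Type u} [Group G] [Finite G]
    (Z : Subgroup G) [Z.Normal] (hZ : IsPGroup p Z)
    (hq : ∀ Q : Sylow p (G ⧸ Z), (Q : Subgroup (G ⧸ Z)).Normal) (P : Sylow p G) :
    (P : Subgroup G).Normal := by
  obtain ⟨Q, hQ⟩ := (P.2.map (QuotientGroup.mk' Z)).exists_le_sylow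
  have hQn := hq Q
  have hcomap : IsPGroup p ((Q : Subgroup (G ⧸ Z)).comap (QuotientGroup.mk' Z)) :=
    Q.2.comap_of_ker_isPGroup (QuotientGroup.mk' Z) (by rw [QuotientGroup.ker_mk']; exact hZ)
  have hle : (P : Subgroup G) ≤ (Q : Subgroup (G ⧸ Z)).comap (QuotientGroup.mk' Z) := by
    intro x hx
    exact hQ (Subgroup.mem_map_of_mem _ hx)
  have heq := P.3 hcomap hle
  rw [← heq]
  exact hQn.comap _

/-- membership in a conjugate Sylow subgroup -/
theorem mem_smul_sylow {p : ℕ} {G : Type*} [Group G] (P : Sylow p G) (g x : G) :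
    x ∈ ((g • P : Sylow p G) : Subgroup G) ↔ g⁻¹ * x * g ∈ (P : Subgroup G) := by
  rw [Sylow.smul_def, Sylow.pointwise_smul_def, Subgroup.mem_pointwise_smul_iff_inv_smul_mem]
  simp [MulAut.smul_def]

/-- a trivial-intersection Sylow subgroup which is not normal forces a large degree -/
theorem key {p : ℕ} (hp : p.Prime) {G : Type u} [Group G] [Finite G] (P : Sylow p G)
    (hnot : ¬ (P : Subgroup G).Normal)
    (hTI : ∀ g d : G, d ≠ 1 → d ∈ (P : Subgroup G) → g⁻¹ * d * g ∈ (P : Subgroup G) →
      g ∈ Subgroup.normalizer ((P : Subgroup G) : Set G))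
    (hPr : Pr p G) : False := by
  classical
  have : Fact p.Prime := ⟨hp⟩
  have : Fintype G := Fintype.ofFinite G
  have : Fintype (IrrCharacter G) := Fintype.ofFinite _
  set N : Subgroup G := Subgroup.normalizer ((P : Subgroup G) : Set G) with hN
  have hPN : (P : Subgroup G) ≤ N := Subgroup.le_normalizer
  have : Fintype N := Fintype.ofFinite N
  have : Fintype (P : Subgroup G) := Fintype.ofFinite _
  have : Fintype ((P : Subgroup G).subgroupOf N) := Fintype.ofFinite _
  set θ : G → ℂ := indFun N (fun _ => (1 : ℂ)) with hθ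
  have hθ1 : θ 1 = (N.index : ℂ) := by
    rw [hθ, indFun_apply_one, mul_one]
  have hθy : ∀ y : G, y ∈ (P : Subgroup G) → y ≠ 1 → θ y = 1 := by
    intro y hy hy1
    rw [hθ, indFun_one_apply]
    have hfix : MulAction.fixedBy (G ⧸ N) y = {((1 : G) : G ⧸ N)} := by
      ext q
      induction q using QuotientGroup.induction_on with
      | H x =>
        rw [MulAction.mem_fixedBy, Set.mem_singleton_iff]
        constructor
        · intro h
          have h1 : ((y * x : G) : G ⧸ N) = (x : G ⧸ N) := h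
          rw [QuotientGroup.eq] at h1
          have h2 : x⁻¹ * y * x ∈ N := by
            have := N.inv_mem h1
            have e : ((y * x)⁻¹ * x)⁻¹ = x⁻¹ * y * x := by group
            rwa [e] at this
          have h3 : x⁻¹ * y * x ∈ ((x⁻¹ • P : Sylow p G) : Subgroup G) := by
            rw [mem_smul_sylow]
            have e : x⁻¹⁻¹ * (x⁻¹ * y * x) * x⁻¹ = y := by group
            rw [e]; exact hy
          have h4 : x⁻¹ * y * x ∈ ((x⁻¹ • P : Sylow p G) : Subgroup G) ⊓ (P : Subgroup G) := by
            rw [← IsPGroup.inf_normalizer_sylow (x⁻¹ • P : Sylow p G).2 P]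
            exact ⟨h3, h2⟩
          have hxN : x ∈ N := hTI x y hy1 hy h4.2
          rw [eq_comm, QuotientGroup.eq, inv_one, one_mul]
          exact hxN
        · intro h
          have hxN : x ∈ N := by
            rw [eq_comm, QuotientGroup.eq, inv_one, one_mul] at h
            exact h
          change ((y * x : G) : G ⧸ N) = (x : G ⧸ N)
          rw [QuotientGroup.eq]
          have e : (y * x)⁻¹ * x = x⁻¹ * y⁻¹ * x := by group
          rw [e]
          exact N.mul_mem (N.mul_mem (N.inv_mem hxN) (N.inv_mem (hPN hy))) hxN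
    rw [hfix]
    simp
  -- the multiplicities
  have hchN : ∀ χ : IrrCharacter G, IsCharacter N (fun h : N => (χ : G → ℂ) h) := fun χ =>
    IsCharacter.restrict (isCharacter_of_isIrrCharacter χ.2) N
  have h1N : IsIrrCharacter N (fun _ => (1 : ℂ)) := isIrrCharacter_one
  have hanat : ∀ χ : IrrCharacter G, ∃ a : ℕ,
      classInner (fun h : N => (χ : G → ℂ) h) (fun _ => (1 : ℂ)) = a := fun χ =>
    classInner_isCharacter_nat (hchN χ) (isCharacter_of_isIrrCharacter h1N)
  choose a ha using hanat
  have haθ : ∀ χ : IrrCharacter G, classInner θ (χ : G → ℂ) = a χ := by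
    intro χ
    rw [hθ, frobenius_reciprocity N _ _ (isClassFunction_of_isIrrCharacter χ.2),
      ← classInner_conj_symm, ha χ, Complex.conj_natCast]
  have hbnat : ∀ χ : IrrCharacter G, ∃ b : ℕ,
      classInner (fun h : (P : Subgroup G) => (χ : G → ℂ) h) (fun _ => (1 : ℂ)) = b := fun χ =>
    classInner_isCharacter_nat (IsCharacter.restrict (isCharacter_of_isIrrCharacter χ.2) _)
      (isCharacter_of_isIrrCharacter isIrrCharacter_one)
  choose b hb using hbnat
  have hq0 : (Nat.card (P : Subgroup G) : ℂ) ≠ 0 := card_ne_zero_complex _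
  have hbsum : ∀ χ : IrrCharacter G, ∑ y : (P : Subgroup G), (χ : G → ℂ) y
      = (Nat.card (P : Subgroup G) : ℂ) * b χ := by
    intro χ
    have := hb χ
    rw [classInner_def] at this
    simp only [map_one, mul_one] at this
    rw [← this]; field_simp
  have hdnat : ∀ χ : IrrCharacter G, ∃ d : ℕ, (χ : G → ℂ) 1 = d ∧ d < p := by
    intro χ
    obtain ⟨d, hd1, -, -, hd⟩ := irr_degree χ
    exact ⟨d, hd1, by rw [← hd]; exact hPr χ⟩
  choose d hd hdp using hdnat
  have hab : ∀ χ : IrrCharacter G, a χ ≠ 0 → b χ ≠ 0 := by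
    intro χ haχ hbχ
    have h1 : classInner (fun h : N => (χ : G → ℂ) h)
        ((⟨fun _ => (1 : ℂ), h1N⟩ : IrrCharacter N) : N → ℂ) ≠ 0 := by
      rw [ha χ]; exact_mod_cast haχ
    have h2 := classInner_restrict_ne_zero ((P : Subgroup G).subgroupOf N) (hchN χ)
      ⟨fun _ => (1 : ℂ), h1N⟩ h1 ⟨fun _ => (1 : ℂ), isIrrCharacter_one⟩ (by
        change classInner (fun _ : ((P : Subgroup G).subgroupOf N) => (1 : ℂ))
          (fun _ => (1 : ℂ)) ≠ 0
        rw [classInner_irr_self isIrrCharacter_one]; exact one_ne_zero)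
    apply h2
    rw [classInner_def]
    simp only [map_one, mul_one]
    have h3 : ∑ h : ((P : Subgroup G).subgroupOf N), (χ : G → ℂ) ((h : N) : G)
        = ∑ y : (P : Subgroup G), (χ : G → ℂ) y := by
      rw [← Equiv.sum_comp (Subgroup.subgroupOfEquivOfLe hPN).toEquiv]
      rfl
    rw [h3, hbsum χ, hbχ]; simp
  have hexp := class_fun_expand θ (indFun_isClassFunction N _)
  have hI1 : (N.index : ℂ) = ∑ χ : IrrCharacter G, ((a χ * d χ : ℕ) : ℂ) := by
    rw [← hθ1]
    conv_lhs => rw [hexp]
    rw [Finset.sum_apply]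
    apply Finset.sum_congr rfl
    intro χ _
    rw [Pi.smul_apply, smul_eq_mul, haθ χ, hd χ]; push_cast; ring
  have hI1' : N.index = ∑ χ : IrrCharacter G, a χ * d χ := by exact_mod_cast hI1
  have hsumθ : ∑ y : (P : Subgroup G), θ (y : G)
      = (N.index : ℂ) + (Nat.card (P : Subgroup G) : ℂ) - 1 := by
    rw [← Finset.add_sum_erase _ _ (Finset.mem_univ (1 : (P : Subgroup G)))]
    have h1 : ∀ y ∈ (Finset.univ : Finset (P : Subgroup G)).erase 1, θ (y : G) = 1 := by
      intro y hy
      apply hθy _ y.2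
      intro h
      exact (Finset.mem_erase.mp hy).1 (Subtype.ext h)
    rw [Finset.sum_congr rfl h1]
    simp only [Finset.sum_const, nsmul_eq_mul, mul_one]
    rw [Finset.card_erase_of_mem (Finset.mem_univ _), Finset.card_univ, Nat.card_eq_fintype_card]
    rw [Subgroup.coe_one, hθ1]
    have h2 : 1 ≤ Fintype.card (P : Subgroup G) := Fintype.card_pos
    push_cast [Nat.cast_sub h2]; ring
  have hI2 : (N.index : ℂ) + (Nat.card (P : Subgroup G) : ℂ) - 1
      = ∑ χ : IrrCharacter G, ((Nat.card (P : Subgroup G) * (a χ * b χ) : ℕ) : ℂ) := by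
    rw [← hsumθ]
    have h1 : ∀ y : (P : Subgroup G), θ (y : G)
        = ∑ χ : IrrCharacter G, (a χ : ℂ) * (χ : G → ℂ) y := by
      intro y
      conv_lhs => rw [hexp]
      rw [Finset.sum_apply]
      apply Finset.sum_congr rfl
      intro χ _
      rw [Pi.smul_apply, smul_eq_mul, haθ χ]
    simp only [h1]
    rw [Finset.sum_comm]
    apply Finset.sum_congr rfl
    intro χ _
    rw [← Finset.mul_sum, hbsum χ]; push_cast; ring
  have hI2' : N.index + Nat.card (P : Subgroup G)
      = (∑ χ : IrrCharacter G, Nat.card (P : Subgroup G) * (a χ * b χ)) + 1 := by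
    have h1 : (N.index : ℂ) + (Nat.card (P : Subgroup G) : ℂ)
        = ((∑ χ : IrrCharacter G, Nat.card (P : Subgroup G) * (a χ * b χ) : ℕ) : ℂ) + 1 := by
      push_cast; push_cast at hI2; rw [← hI2]; ring
    exact_mod_cast h1
  set χ₀ : IrrCharacter G := ⟨fun _ => 1, isIrrCharacter_one⟩ with hχ₀
  have ha0 : a χ₀ = 1 := by
    have h0 := ha χ₀
    have h1 : classInner (fun h : N => (χ₀ : G → ℂ) h) (fun _ => (1 : ℂ)) = 1 :=
      classInner_irr_self h1N
    rw [h1] at h0
    exact_mod_cast h0.symm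
  have hb0 : b χ₀ = 1 := by
    have h0 := hb χ₀
    have h1 : classInner (fun h : (P : Subgroup G) => (χ₀ : G → ℂ) h) (fun _ => (1 : ℂ)) = 1 :=
      classInner_irr_self isIrrCharacter_one
    rw [h1] at h0
    exact_mod_cast h0.symm
  have hd0 : d χ₀ = 1 := by
    have h0 := hd χ₀
    have h1 : (χ₀ : G → ℂ) 1 = 1 := rfl
    rw [h1] at h0
    exact_mod_cast h0.symm
  rw [← Finset.add_sum_erase _ _ (Finset.mem_univ χ₀), ha0, hd0] at hI1'
  rw [← Finset.add_sum_erase _ _ (Finset.mem_univ χ₀), ha0, hb0, ← Finset.mul_sum] at hI2'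
  have hTS : ∑ χ ∈ (Finset.univ : Finset (IrrCharacter G)).erase χ₀, a χ * d χ
      ≤ (p - 1) * ∑ χ ∈ (Finset.univ : Finset (IrrCharacter G)).erase χ₀, a χ * b χ := by
    rw [Finset.mul_sum]
    apply Finset.sum_le_sum
    intro χ _
    by_cases h0 : a χ = 0
    · rw [h0]; simp
    · have hb1 : 1 ≤ b χ := Nat.one_le_iff_ne_zero.mpr (hab χ h0)
      have hd1 : d χ ≤ p - 1 := by have := hdp χ; omega
      calc a χ * d χ ≤ a χ * (p - 1) := Nat.mul_le_mul_left _ hd1
        _ = (p - 1) * (a χ * 1) := by ring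
        _ ≤ (p - 1) * (a χ * b χ) := Nat.mul_le_mul_left _ (Nat.mul_le_mul_left _ hb1)
  have hq : p ≤ Nat.card (P : Subgroup G) := by
    obtain ⟨k, hk⟩ := IsPGroup.iff_card.mp P.2
    rw [hk]
    have hk0 : k ≠ 0 := by
      rintro rfl
      apply hnot
      have h1 : (P : Subgroup G) = ⊥ := Subgroup.card_eq_one.mp (by rw [hk, pow_zero])
      rw [h1]; infer_instance
    exact Nat.le_self_pow hk0 p
  generalize (∑ χ ∈ (Finset.univ : Finset (IrrCharacter G)).erase χ₀, a χ * d χ) = T at hI1' hTS
  generalize (∑ χ ∈ (Finset.univ : Finset (IrrCharacter G)).erase χ₀, a χ * b χ) = S at hI2' hTS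
  have hidx : N.index = 1 := by
    have h1 : N.index = 1 + T := by simpa using hI1'
    have h2 : T = Nat.card (P : Subgroup G) * S := by
      have h3 : N.index + Nat.card (P : Subgroup G)
          = Nat.card (P : Subgroup G) + Nat.card (P : Subgroup G) * S + 1 := by simpa using hI2'
      omega
    have h3 : S = 0 := by
      by_contra hS0
      have hpos : 0 < S := Nat.pos_of_ne_zero hS0
      have h5 : p * S ≤ (p - 1) * S := by
        calc p * S ≤ Nat.card (P : Subgroup G) * S := Nat.mul_le_mul_right _ hq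
          _ = T := h2.symm
          _ ≤ (p - 1) * S := hTS
      have h4 : p ≤ p - 1 := Nat.le_of_mul_le_mul_right h5 hpos
      have := hp.pos
      omega
    rw [h1, h2, h3]; simp
  apply hnot
  rw [← Subgroup.normalizer_eq_top_iff]
  exact Subgroup.index_eq_one.mp hidx

/-- the Sylow `p`-subgroups are normal when all irreducible degrees are below `p` -/
theorem main (p : ℕ) (hp : p.Prime) : ∀ n : ℕ, ∀ (G : Type u) [Group G] [Finite G],
    Nat.card G = n → Pr p G → ∀ P : Sylow p G, (P : Subgroup G).Normal := by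
  intro n
  induction n using Nat.strong_induction_on with
  | _ n ih =>
  intro G _ _ hn hPr P
  have : Fact p.Prime := ⟨hp⟩
  by_contra hnot
  have hab : ∀ a ∈ (P : Subgroup G), ∀ b ∈ (P : Subgroup G), a * b = b * a := by
    intro a ha b hb
    have h1 := comm_of_pgroup hp (K := ↥(P : Subgroup G)) P.2 (hPr.sub _) ⟨a, ha⟩ ⟨b, hb⟩
    exact congrArg Subtype.val h1
  have hprop : ∀ H : Subgroup G, H ≠ ⊤ → (P : Subgroup G) ≤ H →
      H ≤ Subgroup.normalizer ((P : Subgroup G) : Set G) := by
    intro H hH hPH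
    have hlt : Nat.card H < n := by
      rw [← hn]
      rcases (Subgroup.card_le_card_group H).lt_or_eq with h1 | h1
      · exact h1
      · exact absurd (Subgroup.eq_top_of_card_eq H h1) hH
    have hnorm := ih (Nat.card H) hlt H rfl (hPr.sub H) (P.subtype hPH)
    rw [Sylow.coe_subtype] at hnorm
    have hconj : ∀ h ∈ H, ∀ x ∈ (P : Subgroup G), h * x * h⁻¹ ∈ (P : Subgroup G) := by
      intro h hh x hx
      have h1 := hnorm.conj_mem ⟨x, hPH hx⟩ (Subgroup.mem_subgroupOf.mpr hx) ⟨h, hh⟩
      exact Subgroup.mem_subgroupOf.mp h1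
    intro h hh
    rw [Subgroup.mem_normalizer_iff]
    intro x
    constructor
    · intro hx
      exact hconj h hh x hx
    · intro hx
      have h1 := hconj h⁻¹ (H.inv_mem hh) _ hx
      have e : h⁻¹ * (h * x * h⁻¹) * h⁻¹⁻¹ = x := by group
      rwa [e] at h1
  have hTI : ∀ g d : G, d ≠ 1 → d ∈ (P : Subgroup G) → g⁻¹ * d * g ∈ (P : Subgroup G) →
      g ∈ Subgroup.normalizer ((P : Subgroup G) : Set G) := by
    intro g d hd1 hdP hdg
    by_cases hC : Subgroup.centralizer ({d} : Set G) = ⊤
    · exfalso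
      have hdc : ∀ x : G, x * d = d * x := fun x => by
        have h1 : x ∈ Subgroup.centralizer ({d} : Set G) := by rw [hC]; trivial
        exact Subgroup.mem_centralizer_singleton_iff.mp h1
      have hZP : Subgroup.zpowers d ≤ (P : Subgroup G) := (Subgroup.zpowers_le).mpr hdP
      have hZn : (Subgroup.zpowers d).Normal := ⟨fun x hx y => by
        obtain ⟨k, rfl⟩ := Subgroup.mem_zpowers_iff.mp hx
        have hc : Commute y d := hdc y
        have h1 : y * d ^ k * y⁻¹ = d ^ k := by
          rw [(hc.zpow_right k).eq]; group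
        rw [h1]; exact Subgroup.zpow_mem_zpowers d k⟩
      have hZp : IsPGroup p (Subgroup.zpowers d) := P.2.to_le hZP
      have hcard : Nat.card (G ⧸ Subgroup.zpowers d) < n := by
        rw [← hn, Subgroup.card_eq_card_quotient_mul_card_subgroup (Subgroup.zpowers d)]
        have h1 : 1 < Nat.card (Subgroup.zpowers d) := by
          rw [Subgroup.one_lt_card_iff_ne_bot]
          intro h2
          apply hd1
          have h3 : d ∈ (⊥ : Subgroup G) := by rw [← h2]; exact Subgroup.mem_zpowers d
          exact Subgroup.mem_bot.mp h3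
        exact lt_mul_of_one_lt_right Nat.card_pos h1
      apply hnot
      exact sylow_normal_of_quot (Subgroup.zpowers d) hZp
        (fun Q => ih _ hcard (G ⧸ Subgroup.zpowers d) rfl (hPr.quot _) Q) P
    · have hPC : (P : Subgroup G) ≤ Subgroup.centralizer ({d} : Set G) := fun x hx => by
        rw [Subgroup.mem_centralizer_singleton_iff]; exact hab x hx d hdP
      have hCN := hprop _ hC hPC
      have hQC : ((g • P : Sylow p G) : Subgroup G) ≤ Subgroup.centralizer ({d} : Set G) := by
        intro x hx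
        rw [mem_smul_sylow] at hx
        rw [Subgroup.mem_centralizer_singleton_iff]
        have h1 := hab _ hx _ hdg
        have e1 : x * d = g * (g⁻¹ * x * g * (g⁻¹ * d * g)) * g⁻¹ := by group
        have e2 : d * x = g * (g⁻¹ * d * g * (g⁻¹ * x * g)) * g⁻¹ := by group
        rw [e1, e2, h1]
      have hQP : ((g • P : Sylow p G) : Subgroup G) ≤ (P : Subgroup G) := by
        intro x hx
        have h1 : x ∈ ((g • P : Sylow p G) : Subgroup G) ⊓ (P : Subgroup G) := by
          rw [← IsPGroup.inf_normalizer_sylow (g • P : Sylow p G).2 P]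
          exact ⟨hx, hCN (hQC hx)⟩
        exact h1.2
      have heq := (g • P : Sylow p G).3 P.2 hQP
      exact Sylow.smul_eq_iff_mem_normalizer.mp (Sylow.ext heq.symm)
  exact key hp P hnot hTI hPr

/-- final form: a normal abelian Sylow `p`-subgroup -/
theorem normal_abelian_sylow {G : Type u} [Group G] [Finite G] (p : ℕ) (hp : p.Prime)
    (hb : ∀ χ : IrrCharacter G, charDegree (χ : G → ℂ) < p) :
    ∃ P : Subgroup G, P.Normal ∧ (∀ x ∈ P, ∀ y ∈ P, x * y = y * x) ∧ IsPGroup p P ∧
      ¬ p ∣ P.index := by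
  have : Fact p.Prime := ⟨hp⟩
  obtain ⟨P⟩ : Nonempty (Sylow p G) := inferInstance
  have hPr : Pr p G := hb
  refine ⟨P, main p hp _ G rfl hPr P, ?_, P.2, P.not_dvd_index⟩
  intro a ha b hb'
  have h1 := comm_of_pgroup hp (K := ↥(P : Subgroup G)) P.2 (hPr.sub _) ⟨a, ha⟩ ⟨b, hb'⟩
  exact congrArg Subtype.val h1

end Cfsg.Agent.Lib.Helper26.SmallDeg
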