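import Mathlib
import Cfsg.Prelude.Def_CaseTheorems
import Cfsg.Prelude.Def_TwoFusion
import Cfsg.Agent.Lib.Helper10.ZS7
import Cfsg.Agent.Lib.Helper19.SylowAux
import Cfsg.Agent.Lib.Helper1.Cores
import Cfsg.Agent.Lib.Helper6.PSolv3

set_option autoImplicit false

namespace Cfsg.Agent.Lib.Helper26

open Cfsg

universe u

/-- `x` lies in `S` and is the only conjugate of itself lying in `S` -/
def IsoIn {H : Type*} [Group H] (S : Subgroup H) (x : H) : Prop :=
  x ∈ S ∧ ∀ g : H, g * x * g⁻¹ ∈ S → g * x * g⁻¹ = x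

theorem IsoIn.comm {H : Type*} [Group H] {S : Subgroup H} {x : H} (hx : IsoIn S x) {s : H}
    (hs : s ∈ S) : s * x = x * s := by
  have h1 := hx.2 s (S.mul_mem (S.mul_mem hs hx.1) (S.inv_mem hs))
  calc s * x = (s * x * s⁻¹) * s := by group
    _ = x * s := by rw [h1]

theorem eq_one_of_mem_two_odd {H : Type*} [Group H] [Finite H] {T O : Subgroup H}
    (hT : IsPGroup 2 T) (hO : (Nat.card O).Coprime 2) {e : H} (heT : e ∈ T) (heO : e ∈ O) :
    e = 1 := by
  obtain ⟨k, hk⟩ := IsPGroup.iff_orderOf.1 hT ⟨e, heT⟩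
  rw [Subgroup.orderOf_mk] at hk
  have h1 : orderOf e ∣ Nat.card O := Subgroup.orderOf_dvd_natCard O heO
  have h2 : Nat.Coprime (orderOf e) (Nat.card O) := by
    rw [hk]
    exact (Nat.Coprime.pow_left k hO.symm)
  exact orderOf_eq_one_iff.1 (Nat.Coprime.eq_one_of_dvd h2 h1)

theorem isPGroup_zpowers_of_mem {H : Type*} [Group H] {p : ℕ} {S : Subgroup H}
    (hS : IsPGroup p S) {x : H} (hx : x ∈ S) : IsPGroup p (Subgroup.zpowers x) :=
  hS.to_le (Subgroup.zpowers_le.2 hx)

theorem isPGroup_zpowers_conj {H : Type*} [Group H] {p : ℕ} {x : H}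
    (hx : IsPGroup p (Subgroup.zpowers x)) (g : H) :
    IsPGroup p (Subgroup.zpowers (g * x * g⁻¹)) := by
  have h1 : Subgroup.zpowers (g * x * g⁻¹)
      = (Subgroup.zpowers x).map (MulAut.conj g).toMonoidHom := by
    rw [MonoidHom.map_zpowers]
    rfl
  rw [h1]
  exact hx.map _

/-- powers of an element that is weakly closed in a Sylow 2-subgroup are weakly closed -/
theorem IsoIn.pow {H : Type*} [Group H] [Finite H] (S : Sylow 2 H) {x : H}
    (hx : IsoIn (S : Subgroup H) x) (j : ℕ) : IsoIn (S : Subgroup H) (x ^ j) := by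
  refine ⟨(S : Subgroup H).pow_mem hx.1 j, fun g hg => ?_⟩
  obtain ⟨w, hw⟩ : ∃ w : H, w = g * x * g⁻¹ := ⟨_, rfl⟩
  have hvw : g * x ^ j * g⁻¹ = w ^ j := by rw [hw, conj_pow]
  rw [hvw] at hg ⊢
  have hxC : x ∈ Subgroup.centralizer ({w ^ j} : Set H) := by
    rw [Subgroup.mem_centralizer_iff]
    intro h hh
    rw [Set.mem_singleton_iff] at hh
    rw [hh]
    exact hx.comm hg
  have hwC : w ∈ Subgroup.centralizer ({w ^ j} : Set H) := by
    rw [Subgroup.mem_centralizer_iff]
    intro h hh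
    rw [Set.mem_singleton_iff] at hh
    rw [hh, ← pow_succ, ← pow_succ']
  have hp1 : IsPGroup 2 (Subgroup.zpowers x) := isPGroup_zpowers_of_mem S.isPGroup' hx.1
  have hp2 : IsPGroup 2 (Subgroup.zpowers w) := by
    rw [hw]
    exact isPGroup_zpowers_conj hp1 g
  obtain ⟨c, hc, R, hR, -, hxR, hcR⟩ :=
    Cfsg.Agent.Lib.Helper19.exists_conj_pgroup_le (Subgroup.centralizer ({w ^ j} : Set H))
      (Subgroup.zpowers_le.2 hxC) (Subgroup.zpowers_le.2 hwC) hp1 hp2
  obtain ⟨h, hh⟩ := Cfsg.Agent.Lib.Helper19.exists_conj_mem_sylow S hR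
  have e1 : h * x * h⁻¹ = x := hx.2 h (hh x (hxR (Subgroup.mem_zpowers x)))
  have e2 : h * (c * w * c⁻¹) * h⁻¹ = x := by
    have h3 := hh _ (hcR w (Subgroup.mem_zpowers w))
    have h4 : h * (c * w * c⁻¹) * h⁻¹ = (h * c * g) * x * (h * c * g)⁻¹ := by
      rw [hw]; group
    rw [h4] at h3 ⊢
    exact hx.2 _ h3
  have e3 : c * w * c⁻¹ = x := by
    have : h * (c * w * c⁻¹) * h⁻¹ = h * x * h⁻¹ := by rw [e1, e2]
    exact mul_left_cancel (mul_right_cancel this)
  have e5 : c * w ^ j = w ^ j * c := by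
    have := Subgroup.mem_centralizer_iff.1 hc (w ^ j) (Set.mem_singleton _)
    exact this.symm
  calc w ^ j = c * w ^ j * c⁻¹ := by rw [e5]; group
    _ = (c * w * c⁻¹) ^ j := (conj_pow).symm
    _ = x ^ j := by rw [e3]

/-- an involution that is weakly closed in a Sylow 2-subgroup is isolated -/
theorem IsoIn.isolated {H : Type*} [Group H] [Finite H] (S : Sylow 2 H) {u : H}
    (hu : IsoIn (S : Subgroup H) u) (h2 : orderOf u = 2) : IsIsolatedInvolution u := by
  refine ⟨h2, fun g hc => ?_⟩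
  set u' := g * u * g⁻¹ with hu'
  have hp1 : IsPGroup 2 (Subgroup.zpowers u) := isPGroup_zpowers_of_mem S.isPGroup' hu.1
  have hp2 : IsPGroup 2 (Subgroup.zpowers u') := isPGroup_zpowers_conj hp1 g
  have hn : Subgroup.zpowers u ≤ Subgroup.normalizer (Subgroup.zpowers u' : Set H) := by
    rw [Subgroup.zpowers_le]
    apply Subgroup.centralizer_le_normalizer
    rw [Subgroup.mem_centralizer_iff]
    intro y hy
    obtain ⟨i, rfl⟩ := Subgroup.mem_zpowers_iff.1 hy
    exact (hc.zpow_right i).eq.symm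
  have hT : IsPGroup 2 (Subgroup.zpowers u ⊔ Subgroup.zpowers u' : Subgroup H) :=
    IsPGroup.to_sup_of_normal_right' hp1 hp2 hn
  obtain ⟨h, hh⟩ := Cfsg.Agent.Lib.Helper19.exists_conj_mem_sylow S hT
  have e1 : h * u * h⁻¹ = u :=
    hu.2 h (hh u ((le_sup_left : Subgroup.zpowers u ≤ _) (Subgroup.mem_zpowers u)))
  have e2 : h * u' * h⁻¹ = u := by
    have h3 := hh u' ((le_sup_right : Subgroup.zpowers u' ≤ _) (Subgroup.mem_zpowers u'))
    have h4 : h * u' * h⁻¹ = (h * g) * u * (h * g)⁻¹ := by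
      rw [hu']; group
    rw [h4] at h3 ⊢
    exact hu.2 _ h3
  have : h * u' * h⁻¹ = h * u * h⁻¹ := by rw [e1, e2]
  exact mul_left_cancel (mul_right_cancel this)

/-- the odd core of the quotient by a central 2-subgroup is trivial when the odd core is -/
theorem oddCore_quot_central {H : Type u} [Group H] [Finite H] (hO : pPrimeCore 2 H = ⊥)
    (Z : Subgroup H) [Z.Normal] (hZc : Z ≤ Subgroup.center H) (hZ2 : IsPGroup 2 Z) :
    pPrimeCore 2 (H ⧸ Z) = ⊥ := by
  have hp2 : Fact (Nat.Prime 2) := ⟨Nat.prime_two⟩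
  set K : Subgroup H := (pPrimeCore 2 (H ⧸ Z)).comap (QuotientGroup.mk' Z) with hK
  have hKn : K.Normal :=
    (Cfsg.Agent.Lib.Helper1.pPrimeCore_normal (G := H ⧸ Z) 2).comap _
  have hZK : Z ≤ K := by
    intro z hz
    rw [hK, Subgroup.mem_comap]
    have : QuotientGroup.mk' Z z = 1 := (QuotientGroup.eq_one_iff z).2 hz
    rw [this]
    exact Subgroup.one_mem _
  have hidx : (Z.subgroupOf K).index = Nat.card (pPrimeCore 2 (H ⧸ Z)) := by
    have h1 : Z = (⊥ : Subgroup (H ⧸ Z)).comap (QuotientGroup.mk' Z) := by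
      rw [MonoidHom.comap_bot, QuotientGroup.ker_mk']
    have h2 : Z.relIndex K = (⊥ : Subgroup (H ⧸ Z)).relIndex (K.map (QuotientGroup.mk' Z)) := by
      conv_lhs => rw [h1]
      exact Subgroup.relIndex_comap _ _ _
    rw [Subgroup.relIndex_bot_left, hK,
      Subgroup.map_comap_eq_self_of_surjective (QuotientGroup.mk'_surjective Z)] at h2
    exact h2
  have hZ'n : (Z.subgroupOf K).Normal := by
    constructor
    intro n hn g
    rw [Subgroup.mem_subgroupOf] at hn ⊢
    have h1 : ((g * n * g⁻¹ : K) : H) = (n : H) := by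
      have := Subgroup.mem_center_iff.1 (hZc hn) (g : H)
      push_cast
      rw [this]
      group
    rw [h1]
    exact hn
  have hcop : Nat.Coprime (Nat.card (Z.subgroupOf K)) (Z.subgroupOf K).index := by
    have h2' : IsPGroup 2 (Z.subgroupOf K) := hZ2.comap_subtype
    obtain ⟨n, hn⟩ := IsPGroup.iff_card.1 h2'
    rw [hn, hidx]
    exact Nat.Coprime.pow_left n
      (Cfsg.Agent.Lib.Helper1.pPrimeCore_coprime (G := H ⧸ Z) 2).symm
  obtain ⟨L, hL⟩ := Subgroup.exists_right_complement'_of_coprime hcop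
  have hLcard : Nat.card L = (Z.subgroupOf K).index := (hL.symm.index_eq_card).symm
  have hLn : L.Normal := by
    constructor
    intro l hl k
    obtain ⟨⟨z, l₁⟩, hzl⟩ := hL.2 k
    have hzl' : (z : K) * (l₁ : K) = k := hzl
    have hzc : ∀ y : K, (z : K) * y = y * (z : K) := by
      intro y
      apply Subtype.ext
      push_cast
      exact (Subgroup.mem_center_iff.1 (hZc (Subgroup.mem_subgroupOf.1 z.2)) (y : H)).symm
    have e : k * l * k⁻¹ = (l₁ : K) * l * (l₁ : K)⁻¹ := by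
      rw [← hzl']
      calc (z : K) * (l₁ : K) * l * ((z : K) * (l₁ : K))⁻¹
          = (z : K) * ((l₁ : K) * l * (l₁ : K)⁻¹) * (z : K)⁻¹ := by group
        _ = (l₁ : K) * l * (l₁ : K)⁻¹ := by rw [hzc]; group
    rw [e]
    exact L.mul_mem (L.mul_mem l₁.2 hl) (L.inv_mem l₁.2)
  have hLodd : (Nat.card L).Coprime 2 := by
    rw [hLcard, hidx]
    exact Cfsg.Agent.Lib.Helper1.pPrimeCore_coprime (G := H ⧸ Z) 2
  have hKO : pPrimeCore 2 ↥K = ⊥ := by
    have h1 : ((pPrimeCore 2 ↥K).map K.subtype).Normal :=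
      Cfsg.Agent.Lib.Helper6.pPrimeCore_map_subtype_normal (p := 2) K
    have h2 : (Nat.card ((pPrimeCore 2 ↥K).map K.subtype)).Coprime 2 := by
      rw [Subgroup.card_map_of_injective K.subtype_injective]
      exact Cfsg.Agent.Lib.Helper1.pPrimeCore_coprime (G := ↥K) 2
    have h3 := Cfsg.Agent.Lib.Helper1.le_pPrimeCore 2 h1 h2
    rw [hO, le_bot_iff] at h3
    exact (Subgroup.map_eq_bot_iff_of_injective _ K.subtype_injective).1 h3
  have hLbot : L = ⊥ := by
    have := Cfsg.Agent.Lib.Helper1.le_pPrimeCore 2 hLn hLodd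
    rw [hKO, le_bot_iff] at this
    exact this
  have hc1 : Nat.card (pPrimeCore 2 (H ⧸ Z)) = 1 := by
    rw [← hidx, ← hLcard, hLbot, Subgroup.card_bot]
  exact Subgroup.card_eq_one.1 hc1

/-- general `Z*`-theorem for 2-elements, in a group with trivial odd core -/
theorem center_of_isoIn : ∀ (k : ℕ) (H : Type u) [Group H] [Finite H] (S : Sylow 2 H),
    pPrimeCore 2 H = ⊥ → ∀ x : H, IsoIn (S : Subgroup H) x → x ^ (2 ^ k) = 1 →
    x ∈ Subgroup.center H := by
  intro k
  induction k with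
  | zero =>
    intro H _ _ S hO x hx hk
    rw [pow_zero, pow_one] at hk
    rw [hk]
    exact Subgroup.one_mem _
  | succ k ih =>
    intro H _ _ S hO x hx hk
    have hy : IsoIn (S : Subgroup H) (x ^ 2) := hx.pow S 2
    have hyk : (x ^ 2) ^ (2 ^ k) = 1 := by
      rw [← pow_mul, ← pow_succ']
      exact hk
    have hyc : x ^ 2 ∈ Subgroup.center H := ih H S hO (x ^ 2) hy hyk
    set Z : Subgroup H := Subgroup.zpowers (x ^ 2) with hZ
    have hZc : Z ≤ Subgroup.center H := Subgroup.zpowers_le.2 hyc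
    have hZn : Z.Normal := by
      constructor
      intro n hn g
      have := Subgroup.mem_center_iff.1 (hZc hn) g
      have e : g * n * g⁻¹ = n := by rw [this]; group
      rw [e]
      exact hn
    have hZ2 : IsPGroup 2 Z := isPGroup_zpowers_of_mem S.isPGroup' hy.1
    have hZS : Z ≤ (S : Subgroup H) := Subgroup.zpowers_le.2 hy.1
    have hO' : pPrimeCore 2 (H ⧸ Z) = ⊥ := oddCore_quot_central hO Z hZc hZ2
    have hsq : ((x : H ⧸ Z)) ^ 2 = 1 := by
      rw [← QuotientGroup.mk_pow]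
      exact (QuotientGroup.eq_one_iff _).2 (Subgroup.mem_zpowers _)
    by_cases hx1 : (x : H ⧸ Z) = 1
    · exact hZc ((QuotientGroup.eq_one_iff x).1 hx1)
    · have ho : orderOf (x : H ⧸ Z) = 2 := orderOf_eq_prime hsq hx1
      have hiso : IsIsolatedInvolution (x : H ⧸ Z) := by
        refine ⟨ho, fun g' hc => ?_⟩
        obtain ⟨g, rfl⟩ := QuotientGroup.mk_surjective g'
        set x' := g * x * g⁻¹ with hx'
        have hcoe : (g : H ⧸ Z) * (x : H ⧸ Z) * (g : H ⧸ Z)⁻¹ = ((x' : H) : H ⧸ Z) := by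
          rw [hx']
          simp only [QuotientGroup.mk_mul, QuotientGroup.mk_inv]
        rw [hcoe] at hc ⊢
        have hq1 : IsPGroup 2 (Subgroup.zpowers (x : H ⧸ Z)) := by
          apply IsPGroup.of_card (n := 1)
          rw [Nat.card_zpowers, ho, pow_one]
        have hq2 : IsPGroup 2 (Subgroup.zpowers ((x' : H) : H ⧸ Z)) := by
          rw [← hcoe]
          exact isPGroup_zpowers_conj hq1 _
        have hn : Subgroup.zpowers (x : H ⧸ Z)
            ≤ Subgroup.normalizer (Subgroup.zpowers ((x' : H) : H ⧸ Z) : Set (H ⧸ Z)) := by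
          rw [Subgroup.zpowers_le]
          apply Subgroup.centralizer_le_normalizer
          rw [Subgroup.mem_centralizer_iff]
          intro y hy
          obtain ⟨i, rfl⟩ := Subgroup.mem_zpowers_iff.1 hy
          exact (hc.zpow_right i).eq.symm
        have hT' : IsPGroup 2 (Subgroup.zpowers (x : H ⧸ Z)
            ⊔ Subgroup.zpowers ((x' : H) : H ⧸ Z) : Subgroup (H ⧸ Z)) :=
          IsPGroup.to_sup_of_normal_right' hq1 hq2 hn
        have hT : IsPGroup 2 ((Subgroup.zpowers (x : H ⧸ Z)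
            ⊔ Subgroup.zpowers ((x' : H) : H ⧸ Z) : Subgroup (H ⧸ Z)).comap
              (QuotientGroup.mk' Z)) := by
          apply hT'.comap_of_ker_isPGroup
          rw [QuotientGroup.ker_mk']
          exact hZ2
        obtain ⟨h, hh⟩ := Cfsg.Agent.Lib.Helper19.exists_conj_mem_sylow S hT
        have m1 : x ∈ (Subgroup.zpowers (x : H ⧸ Z)
            ⊔ Subgroup.zpowers ((x' : H) : H ⧸ Z) : Subgroup (H ⧸ Z)).comap
              (QuotientGroup.mk' Z) :=
          (le_sup_left : Subgroup.zpowers (x : H ⧸ Z) ≤ _) (Subgroup.mem_zpowers _)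
        have m2 : x' ∈ (Subgroup.zpowers (x : H ⧸ Z)
            ⊔ Subgroup.zpowers ((x' : H) : H ⧸ Z) : Subgroup (H ⧸ Z)).comap
              (QuotientGroup.mk' Z) :=
          (le_sup_right : Subgroup.zpowers ((x' : H) : H ⧸ Z) ≤ _) (Subgroup.mem_zpowers _)
        have e1 : h * x * h⁻¹ = x := hx.2 h (hh x m1)
        have e2 : h * x' * h⁻¹ = x := by
          have h3 := hh x' m2
          have h4 : h * x' * h⁻¹ = (h * g) * x * (h * g)⁻¹ := by
            rw [hx']; group
          rw [h4] at h3 ⊢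
          exact hx.2 _ h3
        have e3 : x' = x := by
          have : h * x' * h⁻¹ = h * x * h⁻¹ := by rw [e1, e2]
          exact mul_left_cancel (mul_right_cancel this)
        rw [e3]
      rw [Subgroup.mem_center_iff]
      intro g
      have hz := Cfsg.Agent.Lib.Helper10.ZS.zstar (x : H ⧸ Z) hiso (g : H ⧸ Z)
      have hz' : (x : H ⧸ Z) * (g : H ⧸ Z) * (x : H ⧸ Z)⁻¹ * (g : H ⧸ Z)⁻¹ = 1 := by
        have h5 : (x : H ⧸ Z) * (g : H ⧸ Z) * (x : H ⧸ Z)⁻¹ * (g : H ⧸ Z)⁻¹
            ∈ pPrimeCore 2 (H ⧸ Z) := hz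
        rw [hO'] at h5
        exact Subgroup.mem_bot.1 h5
      have hmem : x * g * x⁻¹ * g⁻¹ ∈ Z := by
        apply (QuotientGroup.eq_one_iff _).1
        simp only [QuotientGroup.mk_mul, QuotientGroup.mk_inv]
        exact hz'
      have hgS : g * x * g⁻¹ ∈ (S : Subgroup H) := by
        have e : g * x * g⁻¹ = (x * g * x⁻¹ * g⁻¹)⁻¹ * x := by group
        rw [e]
        exact (S : Subgroup H).mul_mem ((S : Subgroup H).inv_mem (hZS hmem)) hx.1
      have e6 := hx.2 g hgS
      calc g * x = (g * x * g⁻¹) * g := by group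
        _ = x * g := by rw [e6]

/-- **General `Z*`-theorem for 2-elements**: an element of a Sylow 2-subgroup `S` whose only
conjugate in `S` is itself is central modulo the odd core. -/
theorem zstar_general {G : Type u} [Group G] [Finite G] (S : Sylow 2 G) (x : G)
    (hx : IsoIn (S : Subgroup G) x) :
    (x : G ⧸ pPrimeCore 2 G) ∈ Subgroup.center (G ⧸ pPrimeCore 2 G) := by
  have hp2 : Fact (Nat.Prime 2) := ⟨Nat.prime_two⟩
  have hOn : (pPrimeCore 2 G).Normal := Cfsg.Agent.Lib.Helper1.pPrimeCore_normal 2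
  set O := pPrimeCore 2 G with hOdef
  let Sb : Sylow 2 (G ⧸ O) := S.mapSurjective (QuotientGroup.mk'_surjective O)
  have hSb : (Sb : Subgroup (G ⧸ O)) = (S : Subgroup G).map (QuotientGroup.mk' O) := rfl
  have hOq : pPrimeCore 2 (G ⧸ O) = ⊥ :=
    Cfsg.Agent.Lib.Helper6.pPrimeCore_quotient_pPrimeCore_eq_bot
  obtain ⟨k, hk⟩ := S.isPGroup' ⟨x, hx.1⟩
  have hk' : x ^ (2 ^ k) = 1 := by
    have := congrArg Subtype.val hk
    simpa using this
  have hiso : IsoIn (Sb : Subgroup (G ⧸ O)) (x : G ⧸ O) := by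
    refine ⟨?_, fun g' hg' => ?_⟩
    · rw [hSb]
      exact ⟨x, hx.1, rfl⟩
    · obtain ⟨g, rfl⟩ := QuotientGroup.mk_surjective g'
      set w := g * x * g⁻¹ with hw
      have hcoe : (g : G ⧸ O) * (x : G ⧸ O) * (g : G ⧸ O)⁻¹ = ((w : G) : G ⧸ O) := by
        rw [hw]
        simp only [QuotientGroup.mk_mul, QuotientGroup.mk_inv]
      rw [hcoe] at hg' ⊢
      set A : Subgroup G := ((S : Subgroup G).map (QuotientGroup.mk' O)).comap
        (QuotientGroup.mk' O) with hA
      have hSA : (S : Subgroup G) ≤ A := Subgroup.le_comap_map _ _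
      have hwA : w ∈ A := by
        rw [hA, Subgroup.mem_comap, ← hSb]
        exact hg'
      have hp1 : IsPGroup 2 (Subgroup.zpowers x) := isPGroup_zpowers_of_mem S.isPGroup' hx.1
      have hp2' : IsPGroup 2 (Subgroup.zpowers w) := isPGroup_zpowers_conj hp1 g
      obtain ⟨t, ht, R, hR, -, hSR, htR⟩ :=
        Cfsg.Agent.Lib.Helper19.exists_conj_pgroup_le A hSA (Subgroup.zpowers_le.2 hwA)
          S.isPGroup' hp2'
      have hRS : R = (S : Subgroup G) := S.3 hR hSR
      have h3 : t * w * t⁻¹ ∈ (S : Subgroup G) := by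
        rw [← hRS]
        exact htR w (Subgroup.mem_zpowers w)
      have h4 : t * w * t⁻¹ = (t * g) * x * (t * g)⁻¹ := by
        rw [hw]; group
      have e1 : t * w * t⁻¹ = x := by
        rw [h4] at h3 ⊢
        exact hx.2 _ h3
      have e2 : w = t⁻¹ * x * t := by
        rw [← e1]; group
      obtain ⟨s, hs, hst⟩ : ∃ s ∈ (S : Subgroup G), (s : G ⧸ O) = (t : G ⧸ O) := by
        have := ht
        rw [hA, Subgroup.mem_comap] at this
        obtain ⟨s, hs, hst⟩ := this
        exact ⟨s, hs, hst⟩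
      have e3 : s⁻¹ * x * s = x := by
        have := hx.comm hs
        calc s⁻¹ * x * s = s⁻¹ * (x * s) := by group
          _ = s⁻¹ * (s * x) := by rw [this]
          _ = x := by group
      calc ((w : G) : G ⧸ O) = ((t⁻¹ * x * t : G) : G ⧸ O) := by rw [e2]
        _ = (t : G ⧸ O)⁻¹ * (x : G ⧸ O) * (t : G ⧸ O) := by
            simp only [QuotientGroup.mk_mul, QuotientGroup.mk_inv]
        _ = (s : G ⧸ O)⁻¹ * (x : G ⧸ O) * (s : G ⧸ O) := by rw [hst]
        _ = ((s⁻¹ * x * s : G) : G ⧸ O) := by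
            simp only [QuotientGroup.mk_mul, QuotientGroup.mk_inv]
        _ = (x : G ⧸ O) := by rw [e3]
  exact center_of_isoIn k (G ⧸ O) Sb hOq (x : G ⧸ O) hiso (by
    rw [← QuotientGroup.mk_pow, hk']
    rfl)

end Cfsg.Agent.Lib.Helper26
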